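import Cfsg.Agent.Lib.DegreePSubTwo.Values
import Cfsg.Agent.Lib.DegreePSubTwo.Structure
import Cfsg.Agent.Lib.Blocks.PrimePowerDegree
import Cfsg.Agent.Lib.Char.Congruence
import Cfsg.Agent.Lib.Char.RationalBound
import Cfsg.Agent.Lib.Char.ClassSum
import Cfsg.Agent.Lib.SmallSimple.SevenTriples
import Cfsg.Agent.Lib.SmallSimple.Basic

/-!
# A self-centralising subgroup of prime order with automiser of order two in a simple group

The principal block is `1`, one character `χ` of degree `n` and `(p - 1) / 2` exceptional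
characters of degree `n + δ` agreeing with `χ + δ` on `p`-regular elements.  Everything below is
expressed through the integer function `B.v = χ` on the `p`-regular elements.
-/

set_option autoImplicit false
set_option linter.style.haveILetI false
set_option linter.unusedSectionVars false

namespace Cfsg.Agent.OneLargePrime

open Cfsg Cfsg.Agent
open scoped ComplexConjugate Classical

universe u

variable {G : Type u} [Group G] [Fintype G] {p : ℕ} [hp : Fact p.Prime]

/-- The block data. -/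
structure Shape (P : Sylow p G) where
  sc : DefectOne.SelfCent P
  five : 5 ≤ p
  simple : IsSimpleGroup G
  nc : ∃ a b : G, a * b ≠ b * a
  t : ℕ
  ht : 2 * t + 1 = p
  n : ℕ
  d : ℕ
  δ : ℤ
  hδ : δ = 1 ∨ δ = -1
  hd : (d : ℤ) = n + δ
  hn : 2 ≤ n
  dvd : (p : ℤ) ∣ (n : ℤ) - δ
  χ : IrrCharacter G
  Y : Finset (IrrCharacter G)
  card_Y : Y.card = t
  deg_χ : Char.degree χ = n
  deg_Y : ∀ θ ∈ Y, Char.degree θ = d
  val_χ : ∀ y ∈ (P : Subgroup G), y ≠ 1 → χ.1 y = δ
  sum_Y : ∀ y ∈ (P : Subgroup G), y ≠ 1 → ∑ θ ∈ Y, θ.1 y = -(δ : ℂ)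
  sum_Y_sq : ∀ y ∈ (P : Subgroup G), y ≠ 1 →
    ∑ θ ∈ Y, θ.1 y * conj (θ.1 y) = ((p - 2 : ℕ) : ℂ)
  regular : ∀ θ ∈ Y, ∀ g, IsPRegular p g → θ.1 g = χ.1 g + δ
  vanish : ∀ ψ : IrrCharacter G, ψ ≠ Char.trivialChar G → ψ ≠ χ → ψ ∉ Y →
    ∀ y ∈ (P : Subgroup G), y ≠ 1 → ψ.1 y = 0
  χ_ne : χ ≠ Char.trivialChar G
  χ_notMem : χ ∉ Y
  triv_notMem : Char.trivialChar G ∉ Y
  inv : ∀ y ∈ (P : Subgroup G), IsConj y y⁻¹
  card_N : Nat.card (Subgroup.normalizer ((P : Subgroup G) : Set G)) = 2 * p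

/-- Existence of the block data. -/
theorem exists_shape [IsSimpleGroup G] (hnc : ∃ a b : G, a * b ≠ b * a) {P : Sylow p G}
    (sc : DefectOne.SelfCent P) (h5 : 5 ≤ p)
    (hidx : (Subgroup.centralizer ((P : Subgroup G) : Set G)).relIndex
      (Subgroup.normalizer ((P : Subgroup G) : Set G)) = 2) : Nonempty (Shape P) := by
  obtain ⟨M, hM⟩ := CharInt.exists_isPModular_of_prime hp.out
  haveI := hM.2.1
  have hpM : (p : AlgInt) ∈ M := by exact_mod_cast hM.2.2
  obtain ⟨S⟩ := DefectOne.primeShape (P := P) hpM sc.card hidx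
  set T := Char.trivialChar G with hTdef
  have hlin : ∀ ψ : IrrCharacter G, Char.degree ψ = 1 → ψ = T := fun ψ h =>
    Blocks.eq_trivial_of_degree_one hnc ψ (by rw [Char.apply_one_eq_degree, h, Nat.cast_one])
  obtain ⟨k, hk⟩ := hp.out.odd_of_ne_two (by omega)
  have hY2 : 1 < S.Y.card := by rw [S.cardY]; omega
  obtain ⟨θ₀, hθY, θ₁, hθ₁, hne⟩ := Finset.one_lt_card.1 hY2
  have hT : T ∈ S.X := (S.mem_XY Blocks.trivial_mem_principalBlock).resolve_right fun hY => by
    have h0 := S.degree_eq hθY hY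
    have h1 := S.degree_eq hθ₁ hY
    rw [DegreePSubTwo.degree_trivial] at h0 h1
    exact hne ((hlin _ h0).trans (hlin _ h1).symm)
  obtain ⟨y₀, hy₀⟩ : ∃ y : (P : Subgroup G), y ≠ 1 := by
    haveI : Nontrivial (P : Subgroup G) :=
      Finite.one_lt_card_iff_nontrivial.1 (hp.out.one_lt.trans_le sc.card.ge)
    exact exists_ne 1
  have hTε : S.εX T = 1 := by
    have h1 := S.X_val _ hT y₀ hy₀
    rw [hTdef, Char.trivialChar_apply] at h1
    rw [hTdef]
    exact_mod_cast h1.symm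
  obtain ⟨χ, hχ⟩ : ∃ χ, S.X.erase T = {χ} :=
    Finset.card_eq_one.1 (by rw [Finset.card_erase_of_mem hT, S.cardX])
  have hχmem : χ ∈ S.X ∧ χ ≠ T := by
    have : χ ∈ S.X.erase T := by rw [hχ]; exact Finset.mem_singleton_self χ
    exact ⟨Finset.mem_of_mem_erase this, Finset.ne_of_mem_erase this⟩
  set δ := S.εX χ with hδdef
  have hn2 : 2 ≤ Char.degree χ := by
    have := Char.degree_pos χ
    by_contra hcon
    exact hχmem.2 (hlin χ (by omega))
  have hrel : S.ε * (Char.degree θ₀ : ℤ) = 1 + δ * (Char.degree χ : ℤ) := by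
    have h1 := S.degree_relation hθY
    rw [← Finset.add_sum_erase _ _ hT, hχ, Finset.sum_singleton, hTε, DegreePSubTwo.degree_trivial] at h1
    simpa using h1
  have hεδ : S.ε = δ := by
    have hd0 := Char.degree_pos θ₀
    rcases S.hεX χ hχmem.1 with e | e <;> rcases S.hε with e' | e' <;>
      rw [← hδdef] at e <;> rw [e, e'] at hrel ⊢ <;> omega
  have hdd : δ * δ = 1 := by
    rcases S.hεX χ hχmem.1 with e | e <;> rw [← hδdef] at e <;> simp [e]
  refine ⟨{ sc := sc, five := h5, simple := inferInstance, nc := hnc, t := k, ht := by omega,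
            n := Char.degree χ, d := Char.degree θ₀, δ := δ, hδ := S.hεX χ hχmem.1, hd := ?_,
            hn := hn2, dvd := ?_, χ := χ, Y := S.Y, card_Y := by rw [S.cardY]; omega, deg_χ := rfl,
            deg_Y := fun θ hθ => S.degree_eq hθ hθY, val_χ := ?_, sum_Y := ?_, sum_Y_sq := ?_,
            regular := ?_, vanish := ?_, χ_ne := hχmem.2, χ_notMem := ?_,
            triv_notMem := Finset.disjoint_left.1 S.disj hT,
            inv := fun y hy => DegreePSubTwo.isConj_inv sc hidx hy, card_N := ?_ }⟩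
  · rw [hεδ] at hrel
    linear_combination δ * hrel + ((Char.degree χ : ℤ) - Char.degree θ₀) * hdd
  · exact (S.X_deg' hχmem.1).symm.dvd
  · exact fun y hy hy1 => S.X_val χ hχmem.1 ⟨y, hy⟩ (fun e => hy1 (congrArg Subtype.val e))
  · intro y hy hy1
    rw [sc.sum_Y hpM S ⟨θ₀, hθY⟩ hy hy1, hεδ]
  · intro y hy hy1
    have h1 := sc.sum_Y_sq hpM S hy hy1
    rw [Nat.cast_sub (show 2 ≤ p by omega)]
    push_cast at h1 ⊢
    linear_combination h1
  · intro θ hθ g hg
    have h1 := S.relation θ hθ g hg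
    rw [← Finset.add_sum_erase _ _ hT, hχ, Finset.sum_singleton, hTε, hεδ, hTdef,
      Char.trivialChar_apply, ← hδdef] at h1
    push_cast at h1
    have hc : (δ : ℂ) * δ = 1 := by exact_mod_cast hdd
    linear_combination (δ : ℂ) * h1 + (χ.1 g - θ.1 g) * hc
  · intro ψ hψT hψχ hψY y hy hy1
    refine sc.vanish hpM (fun hB => ?_) hy hy1
    rcases S.mem_XY hB with h | h
    · have : ψ ∈ S.X.erase T := Finset.mem_erase.2 ⟨hψT, h⟩
      rw [hχ, Finset.mem_singleton] at this
      exact hψχ this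
    · exact hψY h
  · exact Finset.disjoint_left.1 S.disj hχmem.1
  · have hle : Subgroup.centralizer ((P : Subgroup G) : Set G) ≤
        Subgroup.normalizer ((P : Subgroup G) : Set G) := by
      rw [sc.cent]; exact Subgroup.le_normalizer
    have h1 := Subgroup.card_mul_index ((Subgroup.centralizer ((P : Subgroup G) : Set G)).subgroupOf
      (Subgroup.normalizer ((P : Subgroup G) : Set G)))
    rw [Nat.card_congr (Subgroup.subgroupOfEquivOfLe hle).toEquiv,
      show Nat.card (Subgroup.centralizer ((P : Subgroup G) : Set G)) = p by rw [sc.cent]; exact sc.card,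
      show ((Subgroup.centralizer ((P : Subgroup G) : Set G)).subgroupOf
        (Subgroup.normalizer ((P : Subgroup G) : Set G))).index = 2 from hidx] at h1
    omega

variable {P : Sylow p G} (B : Shape P)
include B

theorem Shape.δ_mul_δ : B.δ * B.δ = 1 := by rcases B.hδ with e | e <;> simp [e]

theorem Shape.δ_mul_δC : (B.δ : ℂ) * B.δ = 1 := by exact_mod_cast B.δ_mul_δ

theorem Shape.d_pos : 0 < B.d := by
  have := B.hd; have := B.hn; rcases B.hδ with e | e <;> omega

theorem Shape.exists_ne_one : ∃ y ∈ (P : Subgroup G), y ≠ 1 := by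
  haveI : Nontrivial (P : Subgroup G) :=
    Finite.one_lt_card_iff_nontrivial.1 (hp.out.one_lt.trans_le B.sc.card.ge)
  obtain ⟨y, hy⟩ := exists_ne (1 : (P : Subgroup G))
  exact ⟨y, y.2, fun h => hy (Subtype.ext h)⟩

/-- The order of the group divided by `p`: twice the number of Sylow `p`-subgroups. -/
noncomputable def Shape.M {P : Sylow p G} (_ : Shape P) : ℕ := 2 * Nat.card (Sylow p G)

theorem Shape.card_G : Nat.card G = p * B.M := by
  rw [Shape.M, ← SmallSimple.card_sylow_mul_card_normalizer P, B.card_N]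
  ring

theorem Shape.M_pos : 0 < B.M := by
  have := B.card_G
  have h := Nat.card_pos (α := G)
  rw [this] at h
  exact Nat.pos_of_mul_pos_left h

/-- A sum over the irreducible characters of a quantity vanishing outside the block. -/
theorem Shape.sum_irr {f : IrrCharacter G → ℂ}
    (h0 : ∀ ψ, ψ ≠ Char.trivialChar G → ψ ≠ B.χ → ψ ∉ B.Y → f ψ = 0) :
    ∑ ψ, f ψ = f (Char.trivialChar G) + f B.χ + ∑ θ ∈ B.Y, f θ := by
  rw [← Finset.sum_subset (Finset.subset_univ (insert (Char.trivialChar G) (insert B.χ B.Y)))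
    fun ψ _ hψ => by
      simp only [Finset.mem_insert, not_or] at hψ
      exact h0 ψ hψ.1 hψ.2.1 hψ.2.2,
    Finset.sum_insert (by simp [B.triv_notMem, B.χ_ne.symm]), Finset.sum_insert B.χ_notMem,
    add_assoc]

theorem Shape.isPRegular_one : IsPRegular p (1 : G) := by
  simp [IsPRegular, hp.out.ne_one]

/-- `χ` takes integral values on regular elements. -/
theorem Shape.exists_int {g : G} (hg : IsPRegular p g) : ∃ k : ℤ, B.χ.1 g = k := by
  obtain ⟨y, hy, hy1⟩ := B.exists_ne_one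
  have h1 := Agent.BlockCount.sum_irr_mul_mul_conj_div y y⁻¹ g
  rw [B.sum_irr (f := fun ψ : IrrCharacter G => ψ.1 y * ψ.1 y⁻¹ * conj (ψ.1 g) / ψ.1 1)
    fun ψ a b c => by simp [B.vanish ψ a b c y hy hy1]] at h1
  simp only [Char.trivialChar_apply, CharInt.char_inv (Char.irr_isCharacter _), map_one, mul_one,
    div_one, B.val_χ y hy hy1, map_intCast] at h1
  have hn0 : (B.n : ℂ) ≠ 0 := Nat.cast_ne_zero.2 (by have := B.hn; omega)
  have hd0 : (B.d : ℂ) ≠ 0 := Nat.cast_ne_zero.2 B.d_pos.ne'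
  have hY : ∑ θ ∈ B.Y, θ.1 y * conj (θ.1 y) * conj (θ.1 g) / θ.1 1 =
      ((p - 2 : ℕ) : ℂ) * ((conj (B.χ.1 g) + B.δ) / B.d) := by
    rw [← B.sum_Y_sq y hy hy1, Finset.sum_mul]
    refine Finset.sum_congr rfl fun θ hθ => ?_
    rw [B.regular θ hθ g hg, Char.apply_one_eq_degree, B.deg_Y θ hθ, map_add, map_intCast,
      mul_div_assoc]
  rw [hY, Char.apply_one_eq_degree, B.deg_χ, B.δ_mul_δC, one_mul] at h1
  set c : ℚ := 1 / (B.n : ℚ) + ((p - 2 : ℕ) : ℚ) / (B.d : ℚ) with hc
  set q : ℚ := (Nat.card (Subgroup.centralizer ({g} : Set G)) : ℚ) *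
    (Nat.card {x : G // IsConj (y * (x * y⁻¹ * x⁻¹)) g} : ℚ) / (Nat.card G : ℚ) with hq
  set r : ℚ := (q - 1 - ((p - 2 : ℕ) : ℚ) * (B.δ : ℚ) / (B.d : ℚ)) / c with hr
  have hc0 : (0 : ℚ) < c := by
    have h1 : (0 : ℚ) < B.n := Nat.cast_pos.2 (by have := B.hn; omega)
    have h2 : (0 : ℚ) < B.d := Nat.cast_pos.2 B.d_pos
    rw [hc]; positivity
  have hcC : (c : ℂ) = 1 / (B.n : ℂ) + ((p - 2 : ℕ) : ℂ) / (B.d : ℂ) := by rw [hc]; push_cast; ring
  have hcne : (c : ℂ) ≠ 0 := by exact_mod_cast hc0.ne'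
  have hkey : conj (B.χ.1 g) * (c : ℂ) = (q : ℂ) - 1 - ((p - 2 : ℕ) : ℂ) * (B.δ : ℂ) / (B.d : ℂ) := by
    rw [hcC, hq]
    push_cast
    rw [← h1]
    ring
  have hval : conj (B.χ.1 g) = (r : ℂ) := by
    rw [hr]
    push_cast
    rw [eq_div_iff hcne, hkey]
  have hχ : B.χ.1 g = (r : ℂ) := by
    have := congrArg conj hval
    rwa [Complex.conj_conj, map_ratCast] at this
  exact DegreePSubTwo.exists_int_of_integral
    (CharInt.isIntegral_char (Char.irr_isCharacter B.χ) g) r hχ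

/-- The value of `χ` at a regular element. -/
noncomputable def Shape.v (g : G) : ℤ :=
  if hg : IsPRegular p g then (B.exists_int hg).choose else 0

theorem Shape.v_spec {g : G} (hg : IsPRegular p g) : B.χ.1 g = B.v g := by
  rw [Shape.v, dif_pos hg]
  exact (B.exists_int hg).choose_spec

theorem Shape.v_one : B.v 1 = B.n := by
  have h := B.v_spec B.isPRegular_one
  rw [Char.apply_one_eq_degree, B.deg_χ] at h
  exact_mod_cast h.symm

theorem Shape.v_conj {g h : G} (hg : IsPRegular p g) (hgh : IsConj g h) : B.v h = B.v g := by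
  have hh : IsPRegular p h := by
    obtain ⟨c, rfl⟩ := isConj_iff.1 hgh
    unfold IsPRegular at hg ⊢
    rwa [show orderOf (c * g * c⁻¹) = orderOf g from (MulAut.conj c).orderOf_eq g]
  have := Char.IsClassFunction.apply_of_isConj
    (Char.IsCharacter.isClassFunction (Char.irr_isCharacter B.χ)) hgh
  rw [B.v_spec hg, B.v_spec hh] at this
  exact_mod_cast this.symm

/-- `χ` is faithful. -/
theorem Shape.v_ne {g : G} (hg : IsPRegular p g) (hg1 : g ≠ 1) : B.v g ≠ B.n := by
  intro h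
  haveI := B.simple
  have hne : B.χ.1 ≠ fun _ => 1 := fun he => B.χ_ne (Subtype.ext (by rw [he]; rfl))
  have hgc : g ∈ Subgroup.center G := CharInt.mem_center_of_norm_eq B.χ.2 hne (by
    rw [B.v_spec hg, h, Char.apply_one_eq_degree, B.deg_χ]; push_cast; rfl)
  rw [Blocks.center_eq_bot B.nc, Subgroup.mem_bot] at hgc
  exact hg1 hgc

theorem Shape.v_pow {g : G} (hg : IsPRegular p g) {k : ℕ} (hk : k.Coprime (orderOf g)) :
    B.v (g ^ k) = B.v g := by
  have hgk : IsPRegular p (g ^ k) := fun h => hg (h.trans (orderOf_pow_dvd k))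
  have := Char.apply_pow_eq_of_int (Char.irr_isCharacter B.χ) g (B.v_spec hg) hk
  rw [B.v_spec hgk] at this
  exact_mod_cast this

/-- The centraliser of a non-trivial regular element has order prime to `p`. -/
theorem Shape.regular_of_commute {g w : G} (hg : IsPRegular p g) (hg1 : g ≠ 1) (hc : Commute g w) :
    IsPRegular p w := by
  by_contra hw
  obtain ⟨x, hx, hx1⟩ := DegreePSubTwo.exists_conj_mem B.sc hw
  have hgx : x⁻¹ * g * x ∈ (P : Subgroup G) := by
    rw [← B.sc.centralizer_singleton hx hx1, Subgroup.mem_centralizer_singleton_iff]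
    calc x⁻¹ * g * x * (x⁻¹ * w * x) = x⁻¹ * (g * w) * x := by group
      _ = x⁻¹ * (w * g) * x := by rw [hc.eq]
      _ = x⁻¹ * w * x * (x⁻¹ * g * x) := by group
  have hne : x⁻¹ * g * x ≠ 1 := fun e => hg1 (by
    calc g = x * (x⁻¹ * g * x) * x⁻¹ := by group
      _ = 1 := by rw [e]; group)
  have hd : orderOf (x⁻¹ * g * x) ∣ p := by
    have := Subgroup.orderOf_dvd_natCard (P : Subgroup G) hgx
    rwa [show Nat.card (P : Subgroup G) = p from B.sc.card] at this
  have ho : orderOf (x⁻¹ * g * x) = orderOf g := by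
    have := (MulAut.conj x⁻¹).orderOf_eq g
    simpa using this
  rcases (Nat.dvd_prime hp.out).1 hd with h | h
  · exact hne (orderOf_eq_one_iff.1 h)
  · exact hg (by rw [← ho, h])

theorem Shape.regular_mul {g w : G} (hg : IsPRegular p g) (hg1 : g ≠ 1) (hc : Commute g w) :
    IsPRegular p (g * w) :=
  B.regular_of_commute hg hg1 ((Commute.refl g).mul_right hc)

theorem Shape.regular_of_prime {g : G} {q : ℕ} (hqp : q ≠ p) (hq : q.Prime)
    {k : ℕ} (hk : orderOf g = q ^ k) : IsPRegular p g := fun h =>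
  hqp ((Nat.prime_dvd_prime_iff_eq hp.out hq).1 (hp.out.dvd_of_dvd_pow (hk ▸ h))).symm

/-- Values at commuting elements agree modulo `q` after removing a `q`-element. -/
theorem Shape.v_congr {q : ℕ} (hq : q.Prime) {r w : G} {k : ℕ} (hr : orderOf r = q ^ k)
    (hc : Commute r w) (hrw : IsPRegular p (r * w)) (hw : IsPRegular p w) :
    (q : ℤ) ∣ B.v (r * w) - B.v w := by
  haveI : Fact q.Prime := ⟨hq⟩
  set N := (Nat.card G).factorization q
  obtain ⟨γ, hγ⟩ := Char.exists_char_pow_sub hq (Char.irr_isCharacter B.χ) (r * w) N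
  obtain ⟨γ', hγ'⟩ := Char.exists_char_pow_sub hq (Char.irr_isCharacter B.χ) w N
  rw [Char.pow_pPart_eq hq hc hr N le_rfl, B.v_spec hrw] at hγ
  rw [B.v_spec hw] at hγ'
  have hsub : ((B.v (r * w) ^ q ^ N - B.v w ^ q ^ N : ℤ) : ℂ) = (q : ℂ) * ((γ - γ' : AlgInt) : ℂ) := by
    push_cast
    rw [mul_sub, ← hγ, ← hγ']
    ring
  have h2 : (q : ℤ) ∣ B.v (r * w) ^ q ^ N - B.v w ^ q ^ N := by
    refine CharInt.dvd_of_isIntegral_div hq.ne_zero ?_
    rw [hsub, mul_div_cancel_left₀ _ (Nat.cast_ne_zero.2 hq.ne_zero)]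
    exact (γ - γ').2
  rw [← ZMod.intCast_zmod_eq_zero_iff_dvd] at h2 ⊢
  push_cast at h2 ⊢
  rwa [ZMod.pow_card_pow, ZMod.pow_card_pow] at h2

/-- The values at elements of prime power order. -/
theorem Shape.v_qElem {q : ℕ} (hq : q.Prime) {r : G} {k : ℕ} (hr : orderOf r = q ^ k)
    (hreg : IsPRegular p r) (hr1 : r ≠ 1) :
    ∃ j : ℕ, 1 ≤ j ∧ j ≤ B.n / (q - 1) ∧ (B.n : ℤ) - B.v r = (q * j : ℕ) := by
  have hP : IsPGroup q (Subgroup.zpowers r) :=
    IsPGroup.of_card (n := k) (by rw [Nat.card_zpowers, hr])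
  refine Char.exists_sub_eq_mul (P := Subgroup.zpowers r) hq hP
    (Char.IsCharacter.restrict (Char.irr_isCharacter B.χ) _) (d := B.n) ?_
    (g := ⟨r, Subgroup.mem_zpowers r⟩) ?_ (z := B.v r) ?_
  · show B.χ.1 (1 : G) = _
    rw [Char.apply_one_eq_degree, B.deg_χ]
  · show B.χ.1 r ≠ B.χ.1 (1 : G)
    rw [B.v_spec hreg, Char.apply_one_eq_degree, B.deg_χ]
    exact_mod_cast B.v_ne hreg hr1
  · exact B.v_spec hreg

end Cfsg.Agent.OneLargePrime
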