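import Cfsg.Agent.Lib.OneLargePrime.Basic
import Cfsg.Agent.Lib.Coprime.FixedCount

/-!
# Class counts and orthogonality for a self-centralising subgroup of prime order

Pairs of conjugates with product `y` give `C(g) C(h) n d ∣ |G| (n - v g)(n - v h) / p` with
equality for a pair of involutions; the orthogonality relations of `χ` give
`∑ v (v + δ) = |G| / p` over the regular elements.
-/

set_option autoImplicit false
set_option linter.style.haveILetI false
set_option linter.unusedSectionVars false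

namespace Cfsg.Agent.OneLargePrime

open Cfsg Cfsg.Agent
open scoped ComplexConjugate Classical

universe u

variable {G : Type u} [Group G] [Fintype G] {p : ℕ} [hp : Fact p.Prime] {P : Sylow p G}

/-- Order of the centralizer. -/
noncomputable abbrev cd (g : G) : ℕ := Nat.card (Subgroup.centralizer ({g} : Set G))

variable (B : Shape P)
include B

theorem Shape.pairs_card {g h y : G} (hg : IsPRegular p g) (hh : IsPRegular p h)
    (hy : y ∈ (P : Subgroup G)) (hy1 : y ≠ 1) :
    (Nat.card {s : G × G // s.1 * g * s.1⁻¹ * (s.2 * h * s.2⁻¹) = y} : ℤ) * B.n * B.d =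
      (Nat.card G : ℤ) * ((B.n - B.v g) * (B.n - B.v h)) := by
  have hyi : y⁻¹ ∈ (P : Subgroup G) := inv_mem hy
  have hyi1 : y⁻¹ ≠ 1 := inv_ne_one.2 hy1
  have h1 := Char.card_conj_mul_conj_eq g h y
  rw [B.sum_irr (f := fun ψ : IrrCharacter G => ψ.1 g * ψ.1 h * ψ.1 y⁻¹ / ψ.1 1)
    fun ψ a b c => by simp [B.vanish ψ a b c y⁻¹ hyi hyi1]] at h1
  have hY : ∑ θ ∈ B.Y, θ.1 g * θ.1 h * θ.1 y⁻¹ / θ.1 1 =
      ((B.v g : ℂ) + B.δ) * ((B.v h : ℂ) + B.δ) * (-(B.δ : ℂ)) / B.d := by
    rw [← B.sum_Y y⁻¹ hyi hyi1, Finset.mul_sum, Finset.sum_div]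
    refine Finset.sum_congr rfl fun θ hθ => ?_
    rw [B.regular θ hθ g hg, B.regular θ hθ h hh, B.v_spec hg, B.v_spec hh,
      Char.apply_one_eq_degree, B.deg_Y θ hθ]
  rw [hY] at h1
  simp only [Char.trivialChar_apply, mul_one, div_one, B.val_χ _ hyi hyi1, B.v_spec hg,
    B.v_spec hh, Char.apply_one_eq_degree, B.deg_χ] at h1
  have hn0 : (B.n : ℂ) ≠ 0 := Nat.cast_ne_zero.2 (by have := B.hn; omega)
  have hd0 : (B.d : ℂ) ≠ 0 := Nat.cast_ne_zero.2 B.d_pos.ne'
  have hdn : (B.d : ℂ) = B.n + B.δ := by exact_mod_cast B.hd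
  have hdd := B.δ_mul_δC
  have : ((Nat.card {s : G × G // s.1 * g * s.1⁻¹ * (s.2 * h * s.2⁻¹) = y} : ℤ) * B.n * B.d : ℂ) =
      ((Nat.card G : ℤ) * ((B.n - B.v g) * (B.n - B.v h)) : ℤ) := by
    push_cast
    rw [h1]
    field_simp
    linear_combination (B.n : ℂ) * hdn + (B.v g * B.v h * B.δ : ℂ) * hdn +
      ((B.v g : ℂ) * B.v h - (B.n : ℂ) * (B.v g + B.v h) - (B.n : ℂ) * B.δ) * hdd
  exact_mod_cast this

/-- The free action of `P × C(g) × C(h)` on the pairs. -/
theorem Shape.dvd_pairs {g h y : G} (hg : IsPRegular p g) (hg1 : g ≠ 1)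
    (hy : y ∈ (P : Subgroup G)) :
    p * cd g * cd h ∣ Nat.card {s : G × G // s.1 * g * s.1⁻¹ * (s.2 * h * s.2⁻¹) = y} := by
  set S := {s : G × G // s.1 * g * s.1⁻¹ * (s.2 * h * s.2⁻¹) = y}
  set A := ↥(P : Subgroup G) × ↥(Subgroup.centralizer ({g} : Set G)) ×
    ↥(Subgroup.centralizer ({h} : Set G))
  have hcy : ∀ c : (P : Subgroup G), (c : G) * y = y * c := fun c =>
    (DefectOne.freeData_of_card_eq B.sc.card).mul_comm c.2 hy
  have hconj : ∀ {z : G} (a : Subgroup.centralizer ({z} : Set G)) (c A₀ : G),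
      c * A₀ * (a : G)⁻¹ * z * (c * A₀ * (a : G)⁻¹)⁻¹ = c * (A₀ * z * A₀⁻¹) * c⁻¹ := by
    intro z a c A₀
    have : (a : G)⁻¹ * z * a = z := by
      have h1 := Subgroup.mem_centralizer_singleton_iff.1 a.2
      calc (a : G)⁻¹ * z * a = (a : G)⁻¹ * (z * a) := by group
        _ = (a : G)⁻¹ * ((a : G) * z) := by rw [h1]
        _ = z := by group
    calc c * A₀ * (a : G)⁻¹ * z * (c * A₀ * (a : G)⁻¹)⁻¹
        = c * A₀ * ((a : G)⁻¹ * z * a) * A₀⁻¹ * c⁻¹ := by group
      _ = c * (A₀ * z * A₀⁻¹) * c⁻¹ := by rw [this]; group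
  letI : MulAction A S :=
    { smul := fun k s => ⟨((k.1 : G) * s.1.1 * (k.2.1 : G)⁻¹, (k.1 : G) * s.1.2 * (k.2.2 : G)⁻¹), by
        dsimp only
        rw [hconj, hconj]
        calc (k.1 : G) * (s.1.1 * g * s.1.1⁻¹) * (k.1 : G)⁻¹ *
              ((k.1 : G) * (s.1.2 * h * s.1.2⁻¹) * (k.1 : G)⁻¹)
            = (k.1 : G) * (s.1.1 * g * s.1.1⁻¹ * (s.1.2 * h * s.1.2⁻¹)) * (k.1 : G)⁻¹ := by group
          _ = y := by rw [s.2, hcy]; group⟩
      one_smul := fun s => by
        refine Subtype.ext (Prod.ext ?_ ?_) <;> simp [HSMul.hSMul]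
      mul_smul := fun k k' s => by
        refine Subtype.ext (Prod.ext ?_ ?_) <;>
          simp [HSMul.hSMul, mul_assoc, A, Prod.fst_mul, Prod.snd_mul] }
  have hfree : ∀ (k : A) (s : S), k • s = s → k = 1 := by
    rintro ⟨c, a, b⟩ ⟨⟨x, z⟩, hs⟩ hfix
    have h1 : ((c : G) * x * (a : G)⁻¹, (c : G) * z * (b : G)⁻¹) = (x, z) := congrArg Subtype.val hfix
    rw [Prod.mk.injEq] at h1
    have hc : (c : G) = 1 := by
      by_contra hc1
      have hxg : x * g * x⁻¹ ∈ Subgroup.centralizer ({(c : G)} : Set G) := by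
        rw [Subgroup.mem_centralizer_singleton_iff]
        have h2 := hconj a (c : G) x
        rw [h1.1] at h2
        calc x * g * x⁻¹ * c = (c : G) * (x * g * x⁻¹) * (c : G)⁻¹ * c := by rw [← h2]
          _ = c * (x * g * x⁻¹) := by group
      rw [B.sc.centralizer_singleton c.2 hc1] at hxg
      have hd : orderOf (x * g * x⁻¹) ∣ p := by
        have := Subgroup.orderOf_dvd_natCard (P : Subgroup G) hxg
        rwa [show Nat.card (P : Subgroup G) = p from B.sc.card] at this
      rw [show orderOf (x * g * x⁻¹) = orderOf g from (MulAut.conj x).orderOf_eq g] at hd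
      rcases (Nat.dvd_prime hp.out).1 hd with h | h
      · exact hg1 (orderOf_eq_one_iff.1 h)
      · exact hg (by rw [h])
    have ha : (a : G) = 1 := by
      have h2 := h1.1
      rw [hc, one_mul, mul_inv_eq_iff_eq_mul] at h2
      exact left_eq_mul.1 h2
    have hb : (b : G) = 1 := by
      have h2 := h1.2
      rw [hc, one_mul, mul_inv_eq_iff_eq_mul] at h2
      exact left_eq_mul.1 h2
    exact Prod.ext (Subtype.ext hc) (Prod.ext (Subtype.ext ha) (Subtype.ext hb))
  have := Coprime.card_dvd_card_of_free (A := A) (S := S) hfree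
  rwa [Nat.card_prod, Nat.card_prod, show Nat.card (P : Subgroup G) = p from B.sc.card, ← mul_assoc]
    at this

/-- The basic divisibility. -/
theorem Shape.key_dvd {g h : G} (hg : IsPRegular p g) (hg1 : g ≠ 1) (hh : IsPRegular p h) :
    ((cd g * cd h * B.n * B.d : ℕ) : ℤ) ∣ (B.M : ℤ) * ((B.n - B.v g) * (B.n - B.v h)) := by
  obtain ⟨y, hy, hy1⟩ := B.exists_ne_one
  obtain ⟨k, hk⟩ := B.dvd_pairs (h := h) hg hg1 hy
  have h1 := B.pairs_card hg hh hy hy1
  rw [hk, B.card_G] at h1
  refine ⟨(k : ℤ), mul_left_cancel₀ (show (p : ℤ) ≠ 0 by exact_mod_cast hp.out.ne_zero) ?_⟩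
  push_cast at h1 ⊢
  linear_combination -h1

/-- Every involution inverts a conjugate of `y`, so they form one class; the count is exact. -/
theorem Shape.involution {y : G} (hy : y ∈ (P : Subgroup G)) (hy1 : y ≠ 1) {s : G}
    (hs : orderOf s = 2) : ∃ a b : G, a * s * a⁻¹ * (b * s * b⁻¹) = y := by
  have hreg : IsPRegular p s := fun h => by
    have := Nat.le_of_dvd two_pos (hs ▸ h)
    have := B.five; omega
  have hs1 : s ≠ 1 := fun e => by simp [e] at hs
  have h1 := B.pairs_card hreg hreg hy hy1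
  by_contra hcon
  push Not at hcon
  haveI : IsEmpty {q : G × G // q.1 * s * q.1⁻¹ * (q.2 * s * q.2⁻¹) = y} :=
    ⟨fun q => hcon q.1.1 q.1.2 q.2⟩
  rw [Nat.card_of_isEmpty, Nat.cast_zero, zero_mul, zero_mul, eq_comm] at h1
  have hG : (Nat.card G : ℤ) ≠ 0 := by exact_mod_cast Nat.card_pos.ne'
  have := B.v_ne hreg hs1
  simp only [mul_eq_zero, hG, false_or, or_self, sub_eq_zero] at h1
  exact this h1.symm

/-- Two involutions inverting `y` are conjugate by an element of `P`. -/
theorem Shape.inverting_conj {y i i' : G} (hy : y ∈ (P : Subgroup G)) (hy1 : y ≠ 1)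
    (hi : i * i = 1) (hi' : i' * i' = 1) (hy' : i * y * i = y⁻¹) (hy'' : i' * y * i' = y⁻¹) :
    ∃ c ∈ (P : Subgroup G), i' = c * i * c⁻¹ := by
  have hii : i⁻¹ = i := inv_eq_of_mul_eq_one_right hi
  have hii' : i'⁻¹ = i' := inv_eq_of_mul_eq_one_right hi'
  set e := i * i' with he
  have heP : e ∈ (P : Subgroup G) := by
    rw [← B.sc.centralizer_singleton hy hy1, Subgroup.mem_centralizer_singleton_iff]
    have h1 : i * y⁻¹ * i = y := by
      calc i * y⁻¹ * i = i * (i * y * i) * i := by rw [hy']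
        _ = (i * i) * y * (i * i) := by group
        _ = y := by rw [hi]; group
    calc i * i' * y = i * (i' * y * i') * i' := by
          rw [show i * (i' * y * i') * i' = i * i' * y * (i' * i') by group, hi', mul_one]
      _ = i * y⁻¹ * i * (i * i') := by
          rw [hy'', show i * y⁻¹ * i * (i * i') = i * y⁻¹ * (i * i) * i' by group, hi, mul_one]
      _ = y * (i * i') := by rw [h1]
  have hinv : ∀ c ∈ (P : Subgroup G), i * c * i = c⁻¹ := by
    intro c hc
    have hz : Subgroup.zpowers y = (P : Subgroup G) := by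
      refine Subgroup.eq_of_le_of_card_ge (Subgroup.zpowers_le.2 hy) ?_
      rw [Nat.card_zpowers, show Nat.card (P : Subgroup G) = p from B.sc.card]
      exact (((Nat.dvd_prime hp.out).1 (B.sc.card ▸ Subgroup.orderOf_dvd_natCard _ hy)).resolve_left
        fun h => hy1 (orderOf_eq_one_iff.1 h)).ge
    obtain ⟨j, rfl⟩ := Subgroup.mem_zpowers_iff.1 (hz.ge hc)
    calc i * y ^ j * i = (i * y * i⁻¹) ^ j := by rw [conj_zpow, hii]
      _ = (y ^ j)⁻¹ := by rw [hii, hy', inv_zpow]
  have hep : e ^ p = 1 := by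
    have := orderOf_dvd_iff_pow_eq_one.1 (Subgroup.orderOf_dvd_natCard (P : Subgroup G) heP)
    rwa [show Nat.card (P : Subgroup G) = p from B.sc.card] at this
  refine ⟨e ^ B.t, pow_mem heP _, ?_⟩
  have h1 : i * (e ^ B.t) * i = (e ^ B.t)⁻¹ := hinv _ (pow_mem heP _)
  have h2 : e ^ B.t * i = i * (e ^ B.t)⁻¹ := by
    calc e ^ B.t * i = (i * i) * e ^ B.t * i := by rw [hi, one_mul]
      _ = i * (i * e ^ B.t * i) := by group
      _ = i * (e ^ B.t)⁻¹ := by rw [h1]
  rw [h2, mul_assoc, ← mul_inv_rev, ← pow_add,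
    inv_eq_of_mul_eq_one_left (b := e ^ (B.t + B.t)) (a := e)
      (by rw [← pow_succ', show B.t + B.t + 1 = p by have := B.ht; omega, hep]),
    he, ← mul_assoc, hi, one_mul]

theorem Shape.isConj_involution {s s' : G} (hs : orderOf s = 2) (hs' : orderOf s' = 2) :
    IsConj s s' := by
  obtain ⟨y, hy, hy1⟩ := B.exists_ne_one
  have key : ∀ s : G, orderOf s = 2 → ∃ i, IsConj s i ∧ i * i = 1 ∧ i * y * i = y⁻¹ := by
    intro s hs
    obtain ⟨a, b, hab⟩ := B.involution hy hy1 hs
    have hss : s * s = 1 := by rw [← pow_two, ← hs, pow_orderOf_eq_one]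
    have h2 : ∀ c : G, (c * s * c⁻¹) * (c * s * c⁻¹) = 1 := fun c => by
      rw [show (c * s * c⁻¹) * (c * s * c⁻¹) = c * (s * s) * c⁻¹ by group, hss]; group
    refine ⟨a * s * a⁻¹, isConj_iff.2 ⟨a, rfl⟩, h2 a, ?_⟩
    rw [← hab, mul_inv_rev, inv_eq_of_mul_eq_one_right (h2 a), inv_eq_of_mul_eq_one_right (h2 b),
      ← mul_assoc (a * s * a⁻¹), h2 a, one_mul]
  obtain ⟨i, hi, hii, hiy⟩ := key s hs
  obtain ⟨i', hi', hii', hiy'⟩ := key s' hs'
  obtain ⟨c, -, hc⟩ := B.inverting_conj hy hy1 hii hii' hiy hiy'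
  exact hi.trans ((isConj_iff.2 ⟨c, hc.symm⟩).trans hi'.symm)

/-- The count for a pair of involutions is exact. -/
theorem Shape.key_eq {t : G} (ht : orderOf t = 2) :
    (B.M : ℤ) * ((B.n : ℤ) - B.v t) ^ 2 = ((cd t * cd t * B.n * B.d : ℕ) : ℤ) := by
  obtain ⟨y, hy, hy1⟩ := B.exists_ne_one
  have hreg : IsPRegular p t := fun h => by
    have := Nat.le_of_dvd two_pos (ht ▸ h)
    have := B.five; omega
  have ht1 : t ≠ 1 := fun e => by simp [e] at ht
  have hss : t * t = 1 := by rw [← pow_two, ← ht, pow_orderOf_eq_one]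
  have h2 : ∀ c : G, (c * t * c⁻¹) * (c * t * c⁻¹) = 1 := fun c => by
    rw [show (c * t * c⁻¹) * (c * t * c⁻¹) = c * (t * t) * c⁻¹ by group, hss]; group
  obtain ⟨a₀, b₀, hab⟩ := B.involution hy hy1 ht
  set S := {s : G × G // s.1 * t * s.1⁻¹ * (s.2 * t * s.2⁻¹) = y}
  let f : ↥(P : Subgroup G) × ↥(Subgroup.centralizer ({t} : Set G)) ×
      ↥(Subgroup.centralizer ({t} : Set G)) → G × G :=
    fun k => ((k.1 : G) * a₀ * k.2.1, (k.1 : G) * b₀ * k.2.2)
  have hsub : ∀ s : S, ∃ k, f k = s.1 := by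
    rintro ⟨⟨a, b⟩, hs⟩
    have key : ∀ a b : G, a * t * a⁻¹ * (b * t * b⁻¹) = y → (a * t * a⁻¹) * y * (a * t * a⁻¹) = y⁻¹ := by
      intro a b h
      rw [← h, mul_inv_rev, inv_eq_of_mul_eq_one_right (h2 a), inv_eq_of_mul_eq_one_right (h2 b),
        ← mul_assoc (a * t * a⁻¹), h2 a, one_mul]
    obtain ⟨c, hc, hce⟩ := B.inverting_conj hy hy1 (h2 a₀) (h2 a) (key _ _ hab) (key _ _ hs)
    have hcy : c * y = y * c := (DefectOne.freeData_of_card_eq B.sc.card).mul_comm hc hy
    have hb : b * t * b⁻¹ = c * (b₀ * t * b₀⁻¹) * c⁻¹ := by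
      refine mul_left_cancel (a := a * t * a⁻¹) ?_
      dsimp only at hs
      conv_rhs => rw [hce]
      rw [hs, show c * (a₀ * t * a₀⁻¹) * c⁻¹ * (c * (b₀ * t * b₀⁻¹) * c⁻¹) =
        c * (a₀ * t * a₀⁻¹ * (b₀ * t * b₀⁻¹)) * c⁻¹ by group, hab, hcy]
      group
    have hmem : ∀ u w : G, u * t * u⁻¹ = c * (w * t * w⁻¹) * c⁻¹ →
        (c * w)⁻¹ * u ∈ Subgroup.centralizer ({t} : Set G) := by
      intro u w h
      rw [Subgroup.mem_centralizer_singleton_iff]
      calc (c * w)⁻¹ * u * t = (c * w)⁻¹ * (u * t * u⁻¹) * u := by group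
        _ = t * ((c * w)⁻¹ * u) := by rw [h]; group
    exact ⟨⟨⟨c, hc⟩, ⟨_, hmem a a₀ hce⟩, ⟨_, hmem b b₀ hb⟩⟩, Prod.ext
      (show c * a₀ * ((c * a₀)⁻¹ * a) = a by group) (show c * b₀ * ((c * b₀)⁻¹ * b) = b by group)⟩
  choose g hg using hsub
  have hle : Nat.card S ≤ p * cd t * cd t := by
    have := Nat.card_le_card_of_injective g fun a b e => Subtype.ext (by rw [← hg a, ← hg b, e])
    rwa [Nat.card_prod, Nat.card_prod, show Nat.card (P : Subgroup G) = p from B.sc.card,
      ← mul_assoc] at this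
  haveI : Nonempty S := ⟨⟨(a₀, b₀), hab⟩⟩
  have hcard : Nat.card S = p * cd t * cd t :=
    le_antisymm hle (Nat.le_of_dvd Nat.card_pos (B.dvd_pairs hreg ht1 hy))
  have h1 := B.pairs_card hreg hreg hy hy1
  rw [hcard, B.card_G] at h1
  refine mul_left_cancel₀ (show (p : ℤ) ≠ 0 by exact_mod_cast hp.out.ne_zero) ?_
  push_cast at h1 ⊢
  linear_combination -h1

/-- The first and second moment. -/
theorem Shape.moment :
    ∑ g ∈ Finset.univ.filter (fun g : G => IsPRegular p g), B.v g * (B.v g + B.δ) = B.M := by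
  have hsub := fun g (hg : g ∈ Finset.univ.filter (fun g : G => IsPRegular p g)) =>
    B.v_spec (Finset.mem_filter.1 hg).2
  have hcl : IsClassFunction G B.χ.1 := Char.IsCharacter.isClassFunction (Char.irr_isCharacter B.χ)
  have hreal : ∀ g ∈ Finset.univ.erase (1 : (P : Subgroup G)), B.χ.1 g = B.δ := fun g hg =>
    B.val_χ g g.2 fun e => (Finset.mem_erase.1 hg).1 (Subtype.ext e)
  have h1 := DegreePSubTwo.sum_split_regular B.sc
    (f := fun g => B.χ.1 g * conj (B.χ.1 g)) fun g h => by simp only [hcl g h]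
  have h2 := DegreePSubTwo.sum_split_regular B.sc (f := B.χ.1) hcl
  have hn : ∑ g : G, B.χ.1 g * conj (B.χ.1 g) = Nat.card G := by
    have h := Char.classInner_irr_self B.χ.2
    rwa [classInner, inv_mul_eq_one₀ Char.card_ne_zero, eq_comm] at h
  rw [Finset.sum_congr rfl fun g hg => hsub g hg, Finset.sum_congr rfl hreal, Finset.sum_const,
    DefectOne.card_erase B.sc.card, Char.sum_apply_eq_zero B.χ_ne] at h2
  rw [hn, Finset.sum_congr rfl fun g hg =>
      show B.χ.1 g * conj (B.χ.1 g) = (B.v g : ℂ) * B.v g by rw [hsub g hg, map_intCast],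
    Finset.sum_congr rfl fun (g : (P : Subgroup G)) hg =>
      show B.χ.1 (g : G) * conj (B.χ.1 (g : G)) = 1 by rw [hreal g hg, map_intCast, B.δ_mul_δC],
    Finset.sum_const, DefectOne.card_erase B.sc.card, B.card_G] at h1
  have hp1 : ((p - 1 : ℕ) : ℂ) = (p : ℂ) - 1 := by
    rw [Nat.cast_sub hp.out.one_le, Nat.cast_one]
  simp only [nsmul_eq_mul, hp1, mul_one, Nat.cast_mul] at h1 h2
  have hM : (B.M : ℂ) = 2 * Nat.card (Sylow p G) := by
    simp only [Shape.M, Nat.cast_mul, Nat.cast_ofNat]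
  have : ((∑ g ∈ Finset.univ.filter (fun g : G => IsPRegular p g), B.v g * (B.v g + B.δ) : ℤ) : ℂ) =
      ((B.M : ℤ) : ℂ) := by
    push_cast
    simp only [mul_add, Finset.sum_add_distrib, ← Finset.sum_mul]
    linear_combination -h1 - (B.δ : ℂ) * h2 + ((p : ℂ) - 1) * hM -
      (Nat.card (Sylow p G) : ℂ) * ((p : ℂ) - 1) * B.δ_mul_δC
  exact_mod_cast this

theorem Shape.cost_nonneg (g : G) : 0 ≤ B.v g * (B.v g + B.δ) := by
  rcases B.hδ with e | e <;> rw [e]
  · rcases le_or_gt 0 (B.v g) with h | h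
    · exact mul_nonneg h (by omega)
    · exact mul_nonneg_of_nonpos_of_nonpos h.le (by omega)
  · rcases le_or_gt (B.v g) 0 with h | h
    · exact mul_nonneg_of_nonpos_of_nonpos h (by omega)
    · exact mul_nonneg h.le (by omega)

/-- Elements other than `1` share the excess `|G|/p - n d`. -/
theorem Shape.cost_le (F : Finset G) (hF : ∀ g ∈ F, IsPRegular p g ∧ g ≠ 1) :
    ∑ g ∈ F, B.v g * (B.v g + B.δ) ≤ (B.M : ℤ) - B.n * B.d := by
  rw [← B.moment]
  have h1 : (1 : G) ∉ F := fun h => (hF 1 h).2 rfl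
  have h2 : insert 1 F ⊆ Finset.univ.filter (fun g : G => IsPRegular p g) := by
    intro g hg
    rcases Finset.mem_insert.1 hg with rfl | h
    · exact Finset.mem_filter.2 ⟨Finset.mem_univ _, B.isPRegular_one⟩
    · exact Finset.mem_filter.2 ⟨Finset.mem_univ _, (hF g h).1⟩
  have h3 := Finset.sum_le_sum_of_subset_of_nonneg (f := fun g => B.v g * (B.v g + B.δ)) h2
    fun g _ _ => B.cost_nonneg g
  rw [Finset.sum_insert h1, B.v_one] at h3
  have := B.hd
  rw [← this] at h3
  linarith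

/-- Column relation: `(1 + t) |V| ≤ |C(r)|` if `χ` vanishes on `r V`. -/
theorem Shape.block_bound {q : ℕ} (hq : q.Prime) {r : G} (hr : orderOf r = q)
    (V : Subgroup G) (hV : V ≤ Subgroup.centralizer ({r} : Set G)) (hVq : ¬ q ∣ Nat.card V)
    (hqp : q ≠ p) (h0 : ∀ w ∈ V, B.v (r * w) = 0) :
    (1 + B.t) * Nat.card V ≤ cd r := by
  have hreg : IsPRegular p r := B.regular_of_prime hqp hq (k := 1) (by rw [hr, pow_one])
  have hr1 : r ≠ 1 := fun e => by simp [e] at hr; exact hq.ne_one hr.symm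
  have hcom : ∀ w : V, Commute r (w : G) := fun w =>
    (Subgroup.mem_centralizer_singleton_iff.1 (hV w.2)).symm
  let F : IrrCharacter G → ℂ := fun ψ => ∑ w : V, ψ.1 (r * w)
  let L : V → V → Prop := fun w w' => IsConj (r * (w : G)) (r * (w' : G))
  have hexp : ∑ ψ, Complex.normSq (F ψ) =
      ∑ w' : V, ∑ w : V, if L w w' then (cd (r * (w' : G)) : ℝ) else 0 := by
    have : ((∑ ψ, Complex.normSq (F ψ) : ℝ) : ℂ) =
        ((∑ w' : V, ∑ w : V, if L w w' then (cd (r * (w' : G)) : ℝ) else 0 : ℝ) : ℂ) := by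
      push_cast
      simp only [← Complex.mul_conj, F, map_sum, Finset.sum_mul, Finset.mul_sum]
      rw [Finset.sum_comm]
      refine Finset.sum_congr rfl fun w' _ => ?_
      rw [Finset.sum_comm]
      refine Finset.sum_congr rfl fun w _ => ?_
      rw [Char.sum_irr_mul_conj]
      split_ifs <;> simp_all
    exact_mod_cast this
  -- the left hand side
  have hlow : ((1 + B.t : ℕ) : ℝ) * (Nat.card V : ℝ) ^ 2 ≤ ∑ ψ, Complex.normSq (F ψ) := by
    refine le_trans ?_ (Finset.sum_le_sum_of_subset_of_nonneg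
      (Finset.subset_univ (insert (Char.trivialChar G) B.Y)) fun ψ _ _ => Complex.normSq_nonneg _)
    rw [Finset.sum_insert B.triv_notMem]
    have hT : Complex.normSq (F (Char.trivialChar G)) = (Nat.card V : ℝ) ^ 2 := by
      simp only [F, Char.trivialChar_apply, Finset.sum_const, Finset.card_univ, ← Nat.card_eq_fintype_card,
        nsmul_eq_mul, mul_one, Complex.normSq_natCast]
      ring
    have hY : ∀ θ ∈ B.Y, Complex.normSq (F θ) = (Nat.card V : ℝ) ^ 2 := by
      intro θ hθ
      have : F θ = (Nat.card V : ℂ) * B.δ := by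
        simp only [F]
        rw [Finset.sum_congr rfl fun (w : V) _ => by
          rw [B.regular θ hθ _ (B.regular_mul hreg hr1 (hcom w)),
            B.v_spec (B.regular_mul hreg hr1 (hcom w)), h0 w w.2, Int.cast_zero, zero_add],
          Finset.sum_const, Finset.card_univ, ← Nat.card_eq_fintype_card, nsmul_eq_mul]
      rw [this, map_mul, Complex.normSq_natCast]
      rcases B.hδ with e | e <;> simp [e, pow_two]
    rw [hT, Finset.sum_congr rfl hY, Finset.sum_const, B.card_Y, nsmul_eq_mul]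
    push_cast
    linarith
  -- the right hand side
  have hrow : ∀ w : V, (∑ w' : V, if L w w' then (cd (r * (w' : G)) : ℝ) else 0) ≤ cd r := by
    intro w
    have hC : ∀ u : V, ∀ c : G, c * (r * u) = (r * u) * c → c * r = r * c := by
      intro u c hcu
      -- `r` is a power of `r u`
      obtain ⟨j, hj⟩ : ∃ j : ℕ, (r * (u : G)) ^ j = r := by
        have hcop : Nat.Coprime q (orderOf (u : G)) := hq.coprime_iff_not_dvd.2 fun h =>
          hVq (h.trans (Subgroup.orderOf_dvd_natCard V u.2))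
        obtain ⟨j, hj⟩ := Nat.chineseRemainder hcop 1 0
        refine ⟨j, ?_⟩
        rw [(hcom u).mul_pow, orderOf_dvd_iff_pow_eq_one.1 (Nat.modEq_zero_iff_dvd.1 hj.2), mul_one]
        conv_rhs => rw [← pow_one r]
        exact pow_eq_pow_iff_modEq.2 (by rw [hr]; exact hj.1)
      have h3 : Commute c ((r * (u : G)) ^ j) := Commute.pow_right hcu j
      rw [hj] at h3
      exact h3.eq
    by_cases hex : ∃ w', L w w'
    swap
    · push Not at hex
      rw [Finset.sum_eq_zero fun w' _ => if_neg (hex w')]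
      exact Nat.cast_nonneg _
    have hle : ∑ w' : V, (if L w w' then cd (r * (w' : G)) else 0) ≤ cd r := by
      rw [← Finset.sum_filter]
      set W := Finset.univ.filter fun w' : V => L w w'
      have hinj : Nat.card (Σ w' : ↥W, Subgroup.centralizer ({r * ((w' : V) : G)} : Set G)) ≤
          Nat.card (Subgroup.centralizer ({r} : Set G)) := by
        have hget : ∀ w' : ↥W, ∃ c : G, c * (r * w) * c⁻¹ = r * ((w' : V) : G) ∧ c * r = r * c := by
          rintro ⟨w', hw'⟩
          obtain ⟨c, hc⟩ := isConj_iff.1 (Finset.mem_filter.1 hw').2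
          refine ⟨c, hc, ?_⟩
          -- conjugation carries the `q`-part to the `q`-part
          have hcop : ∀ u : V, Nat.Coprime q (orderOf (u : G)) := fun u =>
            hq.coprime_iff_not_dvd.2 fun h => hVq (h.trans (Subgroup.orderOf_dvd_natCard V u.2))
          obtain ⟨j, hj⟩ := Nat.chineseRemainder
            (Nat.Coprime.mul_right (hcop w) (hcop w')) 1 0
          have hp' : ∀ u : V, orderOf (u : G) ∣ orderOf (w : G) * orderOf (w' : G) →
              (r * (u : G)) ^ j = r := fun u hu => by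
            rw [(hcom u).mul_pow, orderOf_dvd_iff_pow_eq_one.1
              (hu.trans (Nat.modEq_zero_iff_dvd.1 hj.2)), mul_one]
            conv_rhs => rw [← pow_one r]
            exact pow_eq_pow_iff_modEq.2 (by rw [hr]; exact hj.1)
          have h3 := congrArg (fun z => z ^ j) hc
          rw [conj_pow, hp' w (dvd_mul_right _ _), hp' w' (dvd_mul_left _ _)] at h3
          rw [mul_inv_eq_iff_eq_mul] at h3
          exact h3
        choose c hc hcr using hget
        refine Nat.card_le_card_of_injective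
          (fun s => (⟨(s.2 : G) * c s.1, Subgroup.mem_centralizer_singleton_iff.2 (by
            have h4 := hC (s.1 : V) s.2 (Subgroup.mem_centralizer_singleton_iff.1 s.2.2)
            rw [mul_assoc, hcr, ← mul_assoc, h4, mul_assoc])⟩ : Subgroup.centralizer ({r} : Set G))) ?_
        rintro ⟨a, k⟩ ⟨b, l⟩ h
        have h' : (k : G) * c a = (l : G) * c b := congrArg Subtype.val h
        have hmove : ∀ (a : ↥W) (k : Subgroup.centralizer ({r * ((a : V) : G)} : Set G)),
            ((k : G) * c a) * (r * w) * ((k : G) * c a)⁻¹ = r * ((a : V) : G) := by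
          intro a k
          calc ((k : G) * c a) * (r * w) * ((k : G) * c a)⁻¹
              = (k : G) * (c a * (r * w) * (c a)⁻¹) * (k : G)⁻¹ := by group
            _ = r * ((a : V) : G) := by
                rw [hc a, Subgroup.mem_centralizer_singleton_iff.1 k.2]; group
        have hab : a = b := by
          have e := hmove a k
          rw [h', hmove b l] at e
          exact Subtype.ext (Subtype.ext (mul_left_cancel e).symm)
        subst hab
        rw [mul_left_inj] at h'
        exact Sigma.ext rfl (heq_of_eq (Subtype.ext h'))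
      rw [Nat.card_sigma, ← Finset.sum_coe_sort W (fun w' : V => cd (r * (w' : G)))] at *
      exact hinj
    calc (∑ w' : V, if L w w' then (cd (r * (w' : G)) : ℝ) else 0)
        = ((∑ w' : V, (if L w w' then cd (r * (w' : G)) else 0) : ℕ) : ℝ) := by push_cast; rfl
      _ ≤ cd r := by exact_mod_cast hle
  have hup : ∑ ψ, Complex.normSq (F ψ) ≤ (Nat.card V : ℝ) * cd r := by
    rw [hexp, Finset.sum_comm]
    refine (Finset.sum_le_sum fun w _ => hrow w).trans_eq ?_
    rw [Finset.sum_const, Finset.card_univ, ← Nat.card_eq_fintype_card, nsmul_eq_mul]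
  have hVpos : (0 : ℝ) < Nat.card V := Nat.cast_pos.2 Nat.card_pos
  have h5 : ((1 + B.t : ℕ) : ℝ) * Nat.card V ≤ cd r := by
    refine le_of_mul_le_mul_left ?_ hVpos
    nlinarith [hlow.trans hup]
  exact_mod_cast h5

/-- A prime whose full power divides `n` : `χ` vanishes on its singular elements. -/
theorem Shape.v_full {q : ℕ} (hq : q.Prime) (hfull : q ^ (Nat.card G).factorization q ∣ B.n)
    {g : G} (hg : IsPRegular p g) (hgq : q ∣ orderOf g) : B.v g = 0 := by
  haveI : Fact q.Prime := ⟨hq⟩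
  obtain ⟨M, hM⟩ := CharInt.exists_isPModular_of_prime hq
  haveI := hM.2.1
  have hqM : (q : AlgInt) ∈ M := by exact_mod_cast hM.2.2
  have hn0 : B.n ≠ 0 := by have := B.hn; omega
  have hdv : B.n ∣ Nat.card G := by
    rw [← B.deg_χ, ← Char.charDegree_eq_degree]; exact Char.charDegree_dvd_card B.χ
  have h := Blocks.apply_eq_zero_of_defect_zero hqM B.χ (by
    rw [B.deg_χ]
    exact le_antisymm ((Nat.factorization_le_iff_dvd hn0 Nat.card_pos.ne').2 hdv q)
      ((hq.pow_dvd_iff_le_factorization hn0).1 hfull)) (g := g) (fun h => h hgq)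
  rw [B.v_spec hg] at h
  exact_mod_cast h

/-- A prime whose full power divides `d` : `χ + δ` vanishes on its singular elements. -/
theorem Shape.v_full' {q : ℕ} (hq : q.Prime) (hfull : q ^ (Nat.card G).factorization q ∣ B.d)
    {g : G} (hg : IsPRegular p g) (hgq : q ∣ orderOf g) : B.v g = -B.δ := by
  haveI : Fact q.Prime := ⟨hq⟩
  obtain ⟨M, hM⟩ := CharInt.exists_isPModular_of_prime hq
  haveI := hM.2.1
  have hqM : (q : AlgInt) ∈ M := by exact_mod_cast hM.2.2
  have hYne : B.Y.Nonempty := Finset.card_pos.1 (by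
    rw [B.card_Y]; have := B.five; have := B.ht; omega)
  obtain ⟨θ, hθ⟩ := hYne
  have hdv : B.d ∣ Nat.card G := by
    rw [← B.deg_Y θ hθ, ← Char.charDegree_eq_degree]; exact Char.charDegree_dvd_card θ
  have h := Blocks.apply_eq_zero_of_defect_zero hqM θ (by
    rw [B.deg_Y θ hθ]
    exact le_antisymm ((Nat.factorization_le_iff_dvd B.d_pos.ne' Nat.card_pos.ne').2 hdv q)
      ((hq.pow_dvd_iff_le_factorization B.d_pos.ne').1 hfull)) (g := g) (fun h => h hgq)
  rw [B.regular θ hθ g hg, B.v_spec hg] at h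
  have h' : ((B.v g + B.δ : ℤ) : ℂ) = 0 := by push_cast; exact h
  have h'' : B.v g + B.δ = 0 := by exact_mod_cast h'
  linarith

theorem Shape.n_dvd : B.n ∣ Nat.card G := by
  rw [← B.deg_χ, ← Char.charDegree_eq_degree]; exact Char.charDegree_dvd_card B.χ

theorem Shape.d_dvd : B.d ∣ Nat.card G := by
  obtain ⟨θ, hθ⟩ : B.Y.Nonempty := Finset.card_pos.1 (by
    rw [B.card_Y]; have := B.five; have := B.ht; omega)
  rw [← B.deg_Y θ hθ, ← Char.charDegree_eq_degree]; exact Char.charDegree_dvd_card θ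

/-- Bounds for the value at an involution, and the congruence modulo four. -/
theorem Shape.involution_value {t : G} (ht : orderOf t = 2) :
    (4 : ℤ) ∣ (B.n : ℤ) - B.v t ∧
      (p : ℤ) * B.v t ≤ (B.n : ℤ) + ((p : ℤ) - 1) * B.δ ∧
      -((B.n : ℤ) + ((p : ℤ) - 1) * B.δ) ≤ (p : ℤ) * B.v t := by
  have hreg : IsPRegular p t := fun h => by
    have := Nat.le_of_dvd two_pos (ht ▸ h)
    have := B.five; omega
  haveI := B.simple
  have hperf : commutator G = ⊤ := ((Subgroup.Normal.eq_bot_or_eq_top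
      (inferInstance : (commutator G).Normal))).resolve_left fun h => by
    obtain ⟨a, b, hab⟩ := B.nc
    refine hab (commutatorElement_eq_one_iff_mul_comm.1 ?_)
    rw [← Subgroup.mem_bot, ← h]
    exact Subgroup.commutator_mem_commutator (Subgroup.mem_top a) (Subgroup.mem_top b)
  have htt : t * t = 1 := by rw [← pow_two, ← ht, pow_orderOf_eq_one]
  obtain ⟨a, ha, h4, -⟩ := SmallSimple.InvVal.four_dvd_degree_sub hperf htt B.χ
  rw [B.v_spec hreg, Int.cast_inj] at ha
  rw [B.deg_χ, ← ha] at h4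
  refine ⟨h4, ?_⟩
  -- the normalizer of `P`
  set N := Subgroup.normalizer ((P : Subgroup G) : Set G) with hN
  set PN := (P : Subgroup G).subgroupOf N with hPN
  have hle : (P : Subgroup G) ≤ N := Subgroup.le_normalizer
  have hcardPN : Nat.card PN = p :=
    (Nat.card_congr (Subgroup.subgroupOfEquivOfLe hle).toEquiv).trans B.sc.card
  have hidx : PN.index = 2 := by
    have h1 := Subgroup.card_mul_index PN
    rw [hcardPN, show Nat.card N = 2 * p from B.card_N] at h1
    exact mul_left_cancel₀ hp.out.ne_zero (h1.trans (mul_comm 2 p))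
  let sgn : N →* ℂ :=
    { toFun := fun g => if g ∈ PN then 1 else -1
      map_one' := if_pos (one_mem _)
      map_mul' := fun a b => by
        have h := Subgroup.mul_mem_iff_of_index_two hidx (a := a) (b := b)
        by_cases h1 : a ∈ PN <;> by_cases h2 : b ∈ PN <;> simp [h, h1, h2] }
  have hres := Char.IsCharacter.restrict (Char.irr_isCharacter B.χ) N
  obtain ⟨m₁, hm₁⟩ := Char.IsCharacter.exists_nat_classInner hres
    (Char.irr_isCharacter (Char.trivialChar N))
  obtain ⟨m₂, hm₂⟩ := Char.IsCharacter.exists_nat_classInner hres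
    (Char.irr_isCharacter (Char.linIrr sgn))
  -- values outside `P`
  obtain ⟨y, hy, hy1⟩ := B.exists_ne_one
  have hout : ∀ w : N, w ∉ PN → B.χ.1 (w : G) = B.v t := by
    intro w hw
    have hwP : (w : G) ∉ (P : Subgroup G) := fun h => hw h
    have hw2 : (w : G) * w ∈ (P : Subgroup G) := Subgroup.mul_self_mem_of_index_two hidx w
    have hwy : (w : G) * y * (w : G)⁻¹ ∈ (P : Subgroup G) := (Subgroup.mem_normalizer_iff.1 w.2 y).1 hy
    have hsq : (w : G) * w = 1 := by
      by_contra hne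
      refine hwP ?_
      rw [← B.sc.centralizer_singleton hw2 hne, Subgroup.mem_centralizer_singleton_iff]
      exact (mul_assoc _ _ _).symm
    have hw1 : (w : G) ≠ 1 := fun h => hwP (by rw [h]; exact one_mem _)
    have hord : orderOf (w : G) = 2 := by
      haveI : Fact (Nat.Prime 2) := ⟨Nat.prime_two⟩
      exact orderOf_eq_prime (by rw [pow_two, hsq]) hw1
    rw [Char.IsClassFunction.apply_of_isConj
      (Char.IsCharacter.isClassFunction (Char.irr_isCharacter B.χ)) (B.isConj_involution hord ht),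
      B.v_spec hreg]
  have hPsum : ∑ w ∈ Finset.univ.filter (fun w : N => w ∈ PN), B.χ.1 (w : G) =
      (B.n : ℂ) + ((p : ℂ) - 1) * B.δ := by
    have h1 : ∑ z : (P : Subgroup G), B.χ.1 (z : G) = (B.n : ℂ) + ((p : ℂ) - 1) * B.δ := by
      rw [DefectOne.sum_split, B.deg_χ, Finset.sum_congr rfl fun (z : (P : Subgroup G)) hz =>
        B.val_χ z z.2 fun e => (Finset.mem_erase.1 hz).1 (Subtype.ext e),
        Finset.sum_const, DefectOne.card_erase B.sc.card, nsmul_eq_mul,
        Nat.cast_sub hp.out.one_le, Nat.cast_one]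
    rw [← h1]
    exact Finset.sum_bij' (fun w hw => (⟨(w : G), (Finset.mem_filter.1 hw).2⟩ : (P : Subgroup G)))
      (fun z _ => (⟨(z : G), hle z.2⟩ : N)) (fun _ _ => Finset.mem_univ _)
      (fun z _ => Finset.mem_filter.2 ⟨Finset.mem_univ _, z.2⟩) (fun _ _ => rfl) (fun _ _ => rfl)
      (fun _ _ => rfl)
  have hQsum : ∑ w ∈ Finset.univ.filter (fun w : N => w ∉ PN), B.χ.1 (w : G) = (p : ℂ) * B.v t := by
    rw [Finset.sum_congr rfl fun w hw => hout w (Finset.mem_filter.1 hw).2, Finset.sum_const,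
      nsmul_eq_mul]
    congr 1
    have h1 := Finset.card_filter_add_card_filter_not (s := (Finset.univ : Finset N)) (fun w => w ∈ PN)
    rw [Finset.card_univ, ← Nat.card_eq_fintype_card, show Nat.card N = 2 * p from B.card_N,
      show (Finset.univ.filter fun w : N => w ∈ PN).card = p by
        rw [← hcardPN, Nat.card_eq_fintype_card, Fintype.card_subtype]] at h1
    norm_cast
    omega
  simp only [classInner, Char.linIrr_apply, Char.trivialChar_apply, map_one, mul_one,
    show Nat.card N = 2 * p from B.card_N] at hm₁ hm₂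
  rw [← Finset.sum_filter_add_sum_filter_not Finset.univ (fun w : N => w ∈ PN), hPsum, hQsum] at hm₁
  have hs : ∀ w : N, B.χ.1 (w : G) * conj (sgn w) =
      if w ∈ PN then B.χ.1 (w : G) else -B.χ.1 (w : G) := fun w => by
    show B.χ.1 (w : G) * conj (if w ∈ PN then (1 : ℂ) else -1) = _
    split_ifs <;> simp
  rw [← Finset.sum_filter_add_sum_filter_not Finset.univ (fun w : N => w ∈ PN),
    Finset.sum_congr rfl fun w hw => (hs w).trans (if_pos (Finset.mem_filter.1 hw).2),
    Finset.sum_congr rfl fun w hw => (hs w).trans (if_neg (Finset.mem_filter.1 hw).2),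
    Finset.sum_neg_distrib, hPsum, hQsum] at hm₂
  have hp2 : ((2 * p : ℕ) : ℂ) ≠ 0 := Nat.cast_ne_zero.2 (by have := hp.out.pos; omega)
  rw [inv_mul_eq_iff_eq_mul₀ hp2] at hm₁ hm₂
  have e1 : (B.n : ℤ) + ((p : ℤ) - 1) * B.δ + (p : ℤ) * B.v t = ((2 * p * m₁ : ℕ) : ℤ) := by
    have : (((B.n : ℤ) + ((p : ℤ) - 1) * B.δ + (p : ℤ) * B.v t : ℤ) : ℂ) =
        (((2 * p * m₁ : ℕ) : ℤ) : ℂ) := by push_cast at hm₁ ⊢; exact hm₁
    exact_mod_cast this
  have e2 : (B.n : ℤ) + ((p : ℤ) - 1) * B.δ - (p : ℤ) * B.v t = ((2 * p * m₂ : ℕ) : ℤ) := by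
    have : (((B.n : ℤ) + ((p : ℤ) - 1) * B.δ - (p : ℤ) * B.v t : ℤ) : ℂ) =
        (((2 * p * m₂ : ℕ) : ℤ) : ℂ) := by push_cast at hm₂ ⊢; linear_combination hm₂
    exact_mod_cast this
  have := Int.natCast_nonneg (2 * p * m₁)
  have := Int.natCast_nonneg (2 * p * m₂)
  constructor <;> linarith

end Cfsg.Agent.OneLargePrime
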