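import Mathlib

/-!
# Consecutive numbers with prime factors at most seven (Størmer's theorem)

If `n` and `n + 1` are both products of powers of `2, 3, 5, 7` then `n` is one of 23 numbers.
The proof goes through the solutions of the fifteen Pell equations `x² - D y² = 1`.
-/

set_option autoImplicit false

namespace Cfsg.Agent.OneLargePrime

/-- A product of powers of `2, 3, 5, 7`. -/
def Smooth (n : ℕ) : Prop := ∃ a b c d : ℕ, n = 2 ^ a * 3 ^ b * 5 ^ c * 7 ^ d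

theorem Smooth.ne_zero {n : ℕ} (h : Smooth n) : n ≠ 0 := by
  obtain ⟨a, b, c, d, rfl⟩ := h
  positivity

theorem Smooth.prime_mem {n q : ℕ} (h : Smooth n) (hq : q.Prime) (hqn : q ∣ n) :
    q = 2 ∨ q = 3 ∨ q = 5 ∨ q = 7 := by
  obtain ⟨a, b, c, d, rfl⟩ := h
  have h2 : ∀ l e : ℕ, l.Prime → q ∣ l ^ e → q = l := fun l e hl hd =>
    (Nat.prime_dvd_prime_iff_eq hq hl).1 (hq.dvd_of_dvd_pow hd)
  rcases hq.dvd_mul.1 hqn with h | h
  · rcases hq.dvd_mul.1 h with h | h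
    · rcases hq.dvd_mul.1 h with h | h
      · exact Or.inl (h2 2 a Nat.prime_two h)
      · exact Or.inr (Or.inl (h2 3 b Nat.prime_three h))
    · exact Or.inr (Or.inr (Or.inl (h2 5 c (by norm_num) h)))
  · exact Or.inr (Or.inr (Or.inr (h2 7 d (by norm_num) h)))

theorem smooth_of_forall_prime {n : ℕ} (hn : n ≠ 0)
    (h : ∀ q : ℕ, q.Prime → q ∣ n → q = 2 ∨ q = 3 ∨ q = 5 ∨ q = 7) : Smooth n := by
  induction n using Nat.strong_induction_on with
  | _ n ih =>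
    rcases eq_or_ne n 1 with rfl | h1
    · exact ⟨0, 0, 0, 0, by norm_num⟩
    set q := n.minFac
    have hq : q.Prime := Nat.minFac_prime h1
    obtain ⟨m, hm⟩ := n.minFac_dvd
    have hm0 : m ≠ 0 := fun e => hn (by rw [hm, e, mul_zero])
    have hlt : m < n := by
      rw [hm]; exact (Nat.lt_mul_iff_one_lt_left (Nat.pos_of_ne_zero hm0)).2 hq.one_lt
    obtain ⟨a, b, c, d, rfl⟩ := ih m hlt hm0 fun l hl hd => h l hl (hm ▸ hd.mul_left q)
    rcases h q hq n.minFac_dvd with e | e | e | e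
    · exact ⟨a + 1, b, c, d, by rw [hm]; change q * _ = _; rw [e]; ring⟩
    · exact ⟨a, b + 1, c, d, by rw [hm]; change q * _ = _; rw [e]; ring⟩
    · exact ⟨a, b, c + 1, d, by rw [hm]; change q * _ = _; rw [e]; ring⟩
    · exact ⟨a, b, c, d + 1, by rw [hm]; change q * _ = _; rw [e]; ring⟩

theorem Smooth.of_dvd {n k : ℕ} (h : Smooth n) (hk : k ∣ n) : Smooth k :=
  smooth_of_forall_prime (fun e => h.ne_zero (Nat.eq_zero_of_zero_dvd (e ▸ hk)))
    fun _ hq hqk => h.prime_mem hq (hqk.trans hk)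

theorem Smooth.mul {n k : ℕ} (h : Smooth n) (h' : Smooth k) : Smooth (n * k) :=
  smooth_of_forall_prime (mul_ne_zero h.ne_zero h'.ne_zero) fun _ hq hqk =>
    (hq.dvd_mul.1 hqk).elim (h.prime_mem hq) (h'.prime_mem hq)

theorem Smooth.dvd_pow {n K : ℕ} (h : Smooth n) (hK : n < 2 ^ K) : n ∣ 210 ^ K := by
  obtain ⟨a, b, c, d, rfl⟩ := h
  have key : ∀ l e r : ℕ, 2 ≤ l → 0 < r → l ^ e * r < 2 ^ K → e ≤ K := by
    intro l e r hl hr hlt
    by_contra hc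
    have h1 : 2 ^ K ≤ 2 ^ e := Nat.pow_le_pow_right (by norm_num) (by omega)
    have h2 : 2 ^ e ≤ l ^ e := Nat.pow_le_pow_left hl e
    have h3 : l ^ e ≤ l ^ e * r := Nat.le_mul_of_pos_right _ hr
    omega
  have ha : a ≤ K := key 2 a (3 ^ b * 5 ^ c * 7 ^ d) le_rfl (by positivity) (by ring_nf; ring_nf at hK; exact hK)
  have hb : b ≤ K := key 3 b (2 ^ a * 5 ^ c * 7 ^ d) (by norm_num) (by positivity) (by ring_nf; ring_nf at hK; exact hK)
  have hc : c ≤ K := key 5 c (2 ^ a * 3 ^ b * 7 ^ d) (by norm_num) (by positivity) (by ring_nf; ring_nf at hK; exact hK)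
  have hd : d ≤ K := key 7 d (2 ^ a * 3 ^ b * 5 ^ c) (by norm_num) (by positivity) (by ring_nf; ring_nf at hK; exact hK)
  rw [show (210 : ℕ) = 2 * 3 * 5 * 7 by norm_num, mul_pow, mul_pow, mul_pow]
  exact Nat.mul_dvd_mul (Nat.mul_dvd_mul (Nat.mul_dvd_mul (pow_dvd_pow _ ha) (pow_dvd_pow _ hb))
    (pow_dvd_pow _ hc)) (pow_dvd_pow _ hd)

/-- The solutions of `x² = D y² + 1` generated by `(x₁, y₁)`. -/
def pell (D x₁ y₁ : ℕ) : ℕ → ℕ × ℕ
  | 0 => (1, 0)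
  | m + 1 =>
    let s := pell D x₁ y₁ m
    (x₁ * s.1 + D * y₁ * s.2, x₁ * s.2 + y₁ * s.1)

/-- The same sequence modulo `M`. -/
def pellMod (D x₁ y₁ M : ℕ) : ℕ → ℕ × ℕ
  | 0 => (1 % M, 0)
  | m + 1 =>
    let s := pellMod D x₁ y₁ M m
    ((x₁ * s.1 + D * y₁ * s.2) % M, (x₁ * s.2 + y₁ * s.1) % M)

/-- Data of one Pell equation: fundamental solution, a period modulo a power of each of `2,3,5,7`
beyond the one in `y₁`, and the indices with smooth `y`. -/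
structure PellData where
  D : ℕ
  x₁ : ℕ
  y₁ : ℕ
  per : List (ℕ × ℕ × ℕ)
  good : List ℕ

/-- The checks on the data. -/
def PellData.check (T : PellData) : Bool :=
  (T.x₁ * T.x₁ == T.D * T.y₁ * T.y₁ + 1) && decide (2 ≤ T.x₁) && decide (0 < T.y₁) &&
  ((List.range T.y₁).all fun y =>
    y == 0 || !(Nat.sqrt (T.D * y * y + 1) * Nat.sqrt (T.D * y * y + 1) == T.D * y * y + 1)) &&
  (T.per.map Prod.fst == [2, 3, 5, 7]) &&
  (T.y₁ == (T.per.map fun e => e.1 ^ e.2.1).prod) &&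
  (T.per.all fun e =>
    decide (0 < e.2.2) &&
    (pellMod T.D T.x₁ T.y₁ (e.1 ^ (e.2.1 + 1)) e.2.2 == (1 % e.1 ^ (e.2.1 + 1), 0)) &&
    (210 ^ 8 % e.2.2 == 0) &&
    ((List.range e.2.2).all fun r =>
      !(Nat.gcd r e.2.2 == 1) ||
        !((pellMod T.D T.x₁ T.y₁ (e.1 ^ (e.2.1 + 1)) r).2 == 0))) &&
  (T.good.contains 1) &&
  ([2, 3, 5, 7].all fun l => T.good.all fun g =>
    T.good.contains (l * g) ||
      (decide ((pell T.D T.x₁ T.y₁ (l * g)).2 < 2 ^ 128) &&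
        !(210 ^ 128 % (pell T.D T.x₁ T.y₁ (l * g)).2 == 0)))

theorem pellMod_eq (D x₁ y₁ M m : ℕ) :
    pellMod D x₁ y₁ M m = ((pell D x₁ y₁ m).1 % M, (pell D x₁ y₁ m).2 % M) := by
  induction m with
  | zero => simp [pellMod, pell]
  | succ m ih =>
    simp only [pellMod, pell, ih]
    refine Prod.ext ?_ ?_ <;>
      simp only [Nat.add_mod, Nat.mul_mod, Nat.mod_mod]

theorem pell_add (D x₁ y₁ a b : ℕ) :
    (pell D x₁ y₁ (a + b)).1 = (pell D x₁ y₁ a).1 * (pell D x₁ y₁ b).1 +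
        D * (pell D x₁ y₁ a).2 * (pell D x₁ y₁ b).2 ∧
      (pell D x₁ y₁ (a + b)).2 = (pell D x₁ y₁ a).1 * (pell D x₁ y₁ b).2 +
        (pell D x₁ y₁ a).2 * (pell D x₁ y₁ b).1 := by
  induction b with
  | zero => simp [pell]
  | succ b ih =>
    rw [← add_assoc]
    simp only [pell, ih.1, ih.2]
    constructor <;> ring

theorem pell_dvd (D x₁ y₁ a k : ℕ) : (pell D x₁ y₁ a).2 ∣ (pell D x₁ y₁ (a * k)).2 := by
  induction k with
  | zero => simp [pell]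
  | succ k ih =>
    rw [Nat.mul_succ, (pell_add D x₁ y₁ (a * k) a).2]
    exact Dvd.dvd.add (dvd_mul_left _ _) (ih.mul_right _)

theorem pell_periodic {D x₁ y₁ M P : ℕ} (h : pellMod D x₁ y₁ M P = (1 % M, 0)) (m : ℕ) :
    (pell D x₁ y₁ m).2 % M = (pell D x₁ y₁ (m % P)).2 % M := by
  rw [pellMod_eq, Prod.mk.injEq] at h
  conv_lhs => rw [← Nat.mod_add_div m P]
  induction m / P with
  | zero => simp
  | succ k ih =>
    rw [Nat.mul_succ, ← add_assoc, (pell_add D x₁ y₁ (m % P + P * k) P).2]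
    rw [Nat.add_mod, Nat.mul_mod, h.2, Nat.mul_mod ((pell D x₁ y₁ (m % P + P * k)).2), h.1]
    simp [ih]

variable {T : PellData} (hT : T.check = true)

include hT in
theorem PellData.spec :
    (T.x₁ * T.x₁ = T.D * T.y₁ * T.y₁ + 1) ∧ 2 ≤ T.x₁ ∧ 0 < T.y₁ ∧
    (∀ y < T.y₁, 0 < y → ¬ IsSquare (T.D * y * y + 1)) ∧
    T.per.map Prod.fst = [2, 3, 5, 7] ∧ T.y₁ = (T.per.map fun e => e.1 ^ e.2.1).prod ∧
    (∀ e ∈ T.per, 0 < e.2.2 ∧
      pellMod T.D T.x₁ T.y₁ (e.1 ^ (e.2.1 + 1)) e.2.2 = (1 % e.1 ^ (e.2.1 + 1), 0) ∧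
      e.2.2 ∣ 210 ^ 8 ∧
      ∀ r < e.2.2, Nat.gcd r e.2.2 = 1 →
        (pellMod T.D T.x₁ T.y₁ (e.1 ^ (e.2.1 + 1)) r).2 ≠ 0) ∧
    1 ∈ T.good ∧
    ∀ l, (l = 2 ∨ l = 3 ∨ l = 5 ∨ l = 7) → ∀ g ∈ T.good, l * g ∈ T.good ∨
      ((pell T.D T.x₁ T.y₁ (l * g)).2 < 2 ^ 128 ∧
        ¬ (pell T.D T.x₁ T.y₁ (l * g)).2 ∣ 210 ^ 128) := by
  simp only [PellData.check, Bool.and_eq_true, Bool.or_eq_true, beq_iff_eq, decide_eq_true_eq,
    List.all_eq_true, List.mem_range, Bool.not_eq_true', beq_eq_false_iff_ne,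
    List.contains_iff_mem, ne_eq] at hT
  obtain ⟨⟨⟨⟨⟨⟨⟨⟨h1, h2⟩, h3⟩, h4⟩, h5⟩, h6⟩, h7⟩, h8⟩, h9⟩ := hT
  refine ⟨h1, h2, h3, fun y hy hy0 hsq => ?_, h5, h6, fun e he => ?_, h8, fun l hl g hg => ?_⟩
  · obtain ⟨r, hr⟩ := hsq
    exact (h4 y hy).elim (fun e => hy0.ne' e) fun e => e (by rw [hr, Nat.sqrt_eq])
  · obtain ⟨⟨⟨a, b⟩, c⟩, d⟩ := h7 e he
    exact ⟨a, b, Nat.dvd_of_mod_eq_zero c, fun r hr hg => (d r hr).resolve_left (fun x => x hg)⟩
  · refine (h9 l (by simpa using hl) g hg).imp id fun h => ⟨h.1, fun hd => h.2 ?_⟩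
    exact Nat.mod_eq_zero_of_dvd hd

include hT in
/-- Every solution comes from the fundamental one. -/
theorem PellData.exists_index {x y : ℕ} (h : x * x = T.D * y * y + 1) :
    ∃ m, pell T.D T.x₁ T.y₁ m = (x, y) := by
  obtain ⟨hf, hx1, hy1, hmin, -⟩ := T.spec hT
  induction y using Nat.strong_induction_on generalizing x with
  | _ y ih =>
    rcases Nat.eq_zero_or_pos y with rfl | hy
    · have : x = 1 := by nlinarith
      exact ⟨0, by rw [this]; rfl⟩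
    have hle : T.y₁ ≤ y := by
      by_contra hc
      exact hmin y (by omega) hy ⟨x, h.symm⟩
    have hfz : (T.x₁ : ℤ) * T.x₁ = T.D * T.y₁ * T.y₁ + 1 := by exact_mod_cast hf
    have hz : (x : ℤ) * x = T.D * y * y + 1 := by exact_mod_cast h
    set D : ℤ := (T.D : ℤ) with hDdef
    set a : ℤ := (T.x₁ : ℤ) with hadef
    set b : ℤ := (T.y₁ : ℤ) with hbdef
    have ha : 2 ≤ a := Int.ofNat_le.2 hx1
    have hb : 1 ≤ b := Int.ofNat_le.2 hy1
    have hby : b ≤ y := Int.ofNat_le.2 hle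
    have hy' : (1 : ℤ) ≤ y := Int.ofNat_le.2 hy
    have hx0 : (0 : ℤ) ≤ x := Int.natCast_nonneg x
    have hD : (0 : ℤ) ≤ D := Int.natCast_nonneg _
    have hay : 0 ≤ a * y := mul_nonneg (by linarith) (by linarith)
    have hbx : 0 ≤ b * x := mul_nonneg (by linarith) hx0
    have hax : 0 ≤ a * x := mul_nonneg (by linarith) hx0
    have hbb : b * b ≤ (y : ℤ) * y := mul_self_le_mul_self (by linarith) hby
    have e1 : (b * x) * (b * x) = (a * y) * (a * y) + (b * b - y * y) := by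
      linear_combination (b * b) * hz - ((y : ℤ) * y) * hfz
    have e2 : (a * x) * (a * x) = (D * b * y) * (D * b * y) + (a * a + D * y * y) := by
      linear_combination (a * a) * hz + (D * y * y) * hfz
    have hy2 : 0 ≤ a * y - b * x := by
      by_contra hc
      have := mul_self_lt_mul_self hay (show a * y < b * x by linarith)
      linarith
    have hx2 : 0 < a * x - D * b * y := by
      by_contra hc
      have := mul_self_le_mul_self hax (show a * x ≤ D * b * y by linarith)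
      have : 0 ≤ D * y * y := mul_nonneg (mul_nonneg hD (by linarith)) (by linarith)
      nlinarith
    have hy3 : a * y - b * x < y := by
      by_contra hc
      have := mul_self_le_mul_self hbx (show b * x ≤ (a - 1) * y by linarith)
      nlinarith [mul_pos (mul_pos (show (0 : ℤ) < a - 1 by linarith) (show (0 : ℤ) < y by linarith))
        (show (0 : ℤ) < y by linarith)]
    obtain ⟨x', hx'⟩ : ∃ k : ℕ, a * x - D * b * y = k := ⟨_, (Int.toNat_of_nonneg hx2.le).symm⟩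
    obtain ⟨y', hy'e⟩ : ∃ k : ℕ, a * y - b * x = k := ⟨_, (Int.toNat_of_nonneg hy2).symm⟩
    obtain ⟨m, hm⟩ := ih y' (by omega) (x := x') (by
      have : (x' : ℤ) * x' = D * y' * y' + 1 := by
        rw [← hx', ← hy'e]
        linear_combination (a * a - D * b * b) * hz + hfz
      simp only [D] at this
      exact_mod_cast this)
    refine ⟨m + 1, ?_⟩
    simp only [pell, hm, Prod.mk.injEq]
    constructor
    · have : a * (x' : ℤ) + D * b * (y' : ℤ) = x := by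
        rw [← hx', ← hy'e]; linear_combination (x : ℤ) * hfz
      simp only [a, b, D] at this
      exact_mod_cast this
    · have : a * (y' : ℤ) + b * (x' : ℤ) = y := by
        rw [← hx', ← hy'e]; linear_combination (y : ℤ) * hfz
      simp only [a, b] at this
      exact_mod_cast this

include hT in
theorem PellData.pell_fst_pos (m : ℕ) : 0 < (pell T.D T.x₁ T.y₁ m).1 := by
  obtain ⟨-, hx1, -⟩ := T.spec hT
  induction m with
  | zero => exact Nat.one_pos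
  | succ m ih =>
    simp only [pell]
    have : 0 < T.x₁ * (pell T.D T.x₁ T.y₁ m).1 := Nat.mul_pos (by omega) ih
    omega

include hT in
/-- The index of a smooth solution has no prime factor beyond seven. -/
theorem PellData.index_prime {m l : ℕ} (hs : Smooth (pell T.D T.x₁ T.y₁ m).2) (hl : l.Prime)
    (hlm : l ∣ m) : l = 2 ∨ l = 3 ∨ l = 5 ∨ l = 7 := by
  obtain ⟨-, hx1, hy1, -, hmap, hprod, hper, -, -⟩ := T.spec hT
  by_contra hcon
  obtain ⟨k, rfl⟩ := hlm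
  have hsl : Smooth (pell T.D T.x₁ T.y₁ l).2 := hs.of_dvd (pell_dvd _ _ _ _ _)
  -- every prime power in `y_l` already occurs in `y₁`
  have hcop : ∀ e ∈ T.per, ¬ e.1 ^ (e.2.1 + 1) ∣ (pell T.D T.x₁ T.y₁ l).2 := by
    intro e he hd
    obtain ⟨hP, hp, hP210, hr⟩ := hper e he
    refine hr (l % e.2.2) (Nat.mod_lt _ hP) ?_ ?_
    · rw [← Nat.gcd_rec, Nat.gcd_comm]
      refine (hl.coprime_iff_not_dvd.2 fun hlP => hcon ?_)
      exact Smooth.prime_mem (n := 210 ^ 8) ⟨8, 8, 8, 8, by norm_num⟩ hl (hlP.trans hP210)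
    · rw [pellMod_eq]
      dsimp only
      rw [← pell_periodic hp]
      exact Nat.mod_eq_zero_of_dvd hd
  obtain ⟨a, b, c, d, hy⟩ := hsl
  have hdvd : (pell T.D T.x₁ T.y₁ l).2 ∣ T.y₁ := by
    rw [hy, hprod]
    obtain ⟨e2, e3, e5, e7, hpl⟩ : ∃ e2 e3 e5 e7, T.per = [e2, e3, e5, e7] := by
      have hlen := congrArg List.length hmap
      simp only [List.length_map, List.length_cons, List.length_nil] at hlen
      rcases hT' : T.per with _ | ⟨e2, _ | ⟨e3, _ | ⟨e5, _ | ⟨e7, _ | ⟨e9, r⟩⟩⟩⟩⟩ <;>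
        rw [hT'] at hlen <;> simp at hlen
      exact ⟨e2, e3, e5, e7, rfl⟩
    rw [hpl] at hmap ⊢
    simp only [List.map_cons, List.map_nil, List.cons.injEq, and_true] at hmap
    obtain ⟨i2, i3, i5, i7⟩ := hmap
    rw [hpl] at hcop
    have h2 := hcop e2 (by simp); have h3 := hcop e3 (by simp)
    have h5 := hcop e5 (by simp); have h7 := hcop e7 (by simp)
    rw [i2, hy] at h2; rw [i3, hy] at h3; rw [i5, hy] at h5; rw [i7, hy] at h7
    simp only [List.map_cons, List.map_nil, List.prod_cons, List.prod_nil, mul_one, i2, i3, i5, i7,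
      ← mul_assoc]
    refine Nat.mul_dvd_mul (Nat.mul_dvd_mul (Nat.mul_dvd_mul (pow_dvd_pow _ ?_) (pow_dvd_pow _ ?_))
      (pow_dvd_pow _ ?_)) (pow_dvd_pow _ ?_) <;> by_contra hc'
    · exact h2 (((pow_dvd_pow 2 (by omega : e2.2.1 + 1 ≤ a)).mul_right _).mul_right _ |>.mul_right _)
    · exact h3 (((pow_dvd_pow 3 (by omega : e3.2.1 + 1 ≤ b)).mul_left _).mul_right _ |>.mul_right _)
    · exact h5 (((pow_dvd_pow 5 (by omega : e5.2.1 + 1 ≤ c)).mul_left _).mul_right _)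
    · exact h7 ((pow_dvd_pow 7 (by omega : e7.2.1 + 1 ≤ d)).mul_left _)
  have hlt : T.y₁ < (pell T.D T.x₁ T.y₁ l).2 := by
    obtain ⟨j, rfl⟩ : ∃ j, l = 1 + (j + 1) := ⟨l - 2, by have := hl.two_le; omega⟩
    rw [(pell_add _ _ _ _ _).2]
    have h1 : (pell T.D T.x₁ T.y₁ 1) = (T.x₁, T.y₁) := by simp [pell]
    rw [h1]
    dsimp only
    have hp1 : 0 < (pell T.D T.x₁ T.y₁ (j + 1)).2 := by
      simp only [pell]
      exact Nat.add_pos_right _ (Nat.mul_pos hy1 (T.pell_fst_pos hT j))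
    have hp2 := T.pell_fst_pos hT (j + 1)
    nlinarith
  exact absurd (Nat.le_of_dvd hy1 hdvd) (by omega)

include hT in
/-- The index of a smooth solution is in the list. -/
theorem PellData.index_mem (m : ℕ) (hm : m ≠ 0) (hs : Smooth (pell T.D T.x₁ T.y₁ m).2) :
    m ∈ T.good := by
  induction m using Nat.strong_induction_on with
  | _ m ih =>
    obtain ⟨-, -, -, -, -, -, -, h1, hstep⟩ := T.spec hT
    rcases eq_or_ne m 1 with rfl | hm1
    · exact h1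
    have hl : m.minFac.Prime := Nat.minFac_prime hm1
    obtain ⟨k, hk⟩ := m.minFac_dvd
    have hk0 : k ≠ 0 := fun e => hm (by rw [hk, e, mul_zero])
    have hkm : k < m := by
      rw [hk]; exact (Nat.lt_mul_iff_one_lt_left (Nat.pos_of_ne_zero hk0)).2 hl.one_lt
    have hsk : Smooth (pell T.D T.x₁ T.y₁ k).2 := hs.of_dvd (by
      rw [hk, mul_comm]; exact pell_dvd _ _ _ _ _)
    rcases hstep _ (T.index_prime hT hs hl m.minFac_dvd) k (ih k hkm hk0 hsk) with h | ⟨hb, hnd⟩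
    · rwa [← hk] at h
    · rw [← hk] at hb hnd
      exact absurd (hs.dvd_pow hb) hnd

/-- The fifteen equations. -/
def pellTable : List PellData :=
  [⟨2, 3, 2, [(2, 1, 2), (3, 0, 4), (5, 0, 6), (7, 0, 3)], [1, 2, 3]⟩,
   ⟨3, 2, 1, [(2, 0, 2), (3, 0, 6), (5, 0, 3), (7, 0, 8)], [1, 2, 3, 4]⟩,
   ⟨5, 9, 4, [(2, 2, 2), (3, 0, 4), (5, 0, 10), (7, 0, 8)], [1, 2]⟩,
   ⟨6, 5, 2, [(2, 1, 2), (3, 0, 6), (5, 0, 4), (7, 0, 8)], [1, 2, 4]⟩,
   ⟨7, 8, 3, [(2, 0, 2), (3, 1, 6), (5, 0, 6), (7, 0, 7)], [1, 2]⟩,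
   ⟨10, 19, 6, [(2, 1, 2), (3, 1, 3), (5, 0, 10), (7, 0, 8)], [1]⟩,
   ⟨14, 15, 4, [(2, 2, 2), (3, 0, 4), (5, 0, 4), (7, 0, 7)], [1, 2]⟩,
   ⟨15, 4, 1, [(2, 0, 2), (3, 0, 3), (5, 0, 10), (7, 0, 6)], [1, 2, 3]⟩,
   ⟨21, 55, 12, [(2, 2, 2), (3, 1, 3), (5, 0, 4), (7, 0, 14)], [1]⟩,
   ⟨30, 11, 2, [(2, 1, 2), (3, 0, 6), (5, 0, 5), (7, 0, 6)], [1]⟩,
   ⟨35, 6, 1, [(2, 0, 2), (3, 0, 4), (5, 0, 5), (7, 0, 14)], [1, 2]⟩,
   ⟨42, 13, 2, [(2, 1, 2), (3, 0, 3), (5, 0, 6), (7, 0, 14)], [1, 3]⟩,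
   ⟨70, 251, 30, [(2, 1, 2), (3, 1, 6), (5, 1, 5), (7, 0, 14)], [1]⟩,
   ⟨105, 41, 4, [(2, 2, 2), (3, 0, 6), (5, 0, 5), (7, 0, 14)], [1]⟩,
   ⟨210, 29, 2, [(2, 1, 2), (3, 0, 6), (5, 0, 10), (7, 0, 7)], [1]⟩]

/-- The numbers `n` with `n` and `n + 1` smooth. -/
def smoothList : List ℕ :=
  [1, 2, 3, 4, 5, 6, 7, 8, 9, 14, 15, 20, 24, 27, 35, 48, 49, 63, 80, 125, 224, 2400, 4374]

theorem pellTable_check : pellTable.all PellData.check = true := by decide +kernel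

theorem pellTable_values : ∀ T ∈ pellTable, ∀ g ∈ T.good,
    (pell T.D T.x₁ T.y₁ g).1 % 2 = 1 → ((pell T.D T.x₁ T.y₁ g).1 - 1) / 2 ∈ smoothList := by
  decide +kernel

theorem pellTable_cover : ∀ a b c d : Fin 2, (a.1 ≠ 0 ∨ b.1 ≠ 0 ∨ c.1 ≠ 0 ∨ d.1 ≠ 0) →
    ∃ T ∈ pellTable, T.D = 2 ^ a.1 * 3 ^ b.1 * 5 ^ c.1 * 7 ^ d.1 := by
  decide +kernel

/-- **Størmer's theorem** for the primes `2, 3, 5, 7`. -/
theorem smooth_pair {n : ℕ} (h1 : Smooth n) (h2 : Smooth (n + 1)) : n ∈ smoothList := by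
  have h4 : Smooth 4 := ⟨2, 0, 0, 0, by norm_num⟩
  obtain ⟨a, b, c, d, hz⟩ := (h4.mul h1).mul h2
  have key : ∀ l e : ℕ, l ^ (e % 2) * (l ^ (e / 2) * l ^ (e / 2)) = l ^ e := fun l e => by
    rw [← pow_add, ← pow_add]; congr 1; omega
  set D := 2 ^ (a % 2) * 3 ^ (b % 2) * 5 ^ (c % 2) * 7 ^ (d % 2) with hD
  set y := 2 ^ (a / 2) * 3 ^ (b / 2) * 5 ^ (c / 2) * 7 ^ (d / 2) with hy
  have hys : Smooth y := ⟨_, _, _, _, hy⟩
  have heq : (2 * n + 1) * (2 * n + 1) = D * y * y + 1 := by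
    rw [show (2 * n + 1) * (2 * n + 1) = 4 * n * (n + 1) + 1 by ring, hz, ← key 2 a, ← key 3 b,
      ← key 5 c, ← key 7 d]
    ring
  have hn := Nat.pos_of_ne_zero h1.ne_zero
  by_cases hsq : a % 2 = 0 ∧ b % 2 = 0 ∧ c % 2 = 0 ∧ d % 2 = 0
  · exfalso
    have : D = 1 := by rw [hD, hsq.1, hsq.2.1, hsq.2.2.1, hsq.2.2.2]; norm_num
    rw [this, one_mul] at heq
    have hy0 := Nat.pos_of_ne_zero hys.ne_zero
    rcases Nat.lt_or_ge y (2 * n + 1) with h | h <;> nlinarith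
  obtain ⟨T, hTm, hTD⟩ := pellTable_cover ⟨a % 2, Nat.mod_lt _ two_pos⟩ ⟨b % 2, Nat.mod_lt _ two_pos⟩
    ⟨c % 2, Nat.mod_lt _ two_pos⟩ ⟨d % 2, Nat.mod_lt _ two_pos⟩ (by simp only; omega)
  have hT := List.all_eq_true.1 pellTable_check T hTm
  obtain ⟨m, hm⟩ := T.exists_index hT (x := 2 * n + 1) (y := y) (by rw [hTD]; exact heq)
  have hm0 : m ≠ 0 := fun e => by
    rw [e] at hm
    simp only [pell, Prod.mk.injEq] at hm
    exact hys.ne_zero hm.2.symm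
  have hmem := T.index_mem hT m hm0 (by rw [hm]; exact hys)
  have := pellTable_values T hTm m hmem (by rw [hm]; omega)
  rw [hm] at this
  simpa using this

end Cfsg.Agent.OneLargePrime
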